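import Groth.Agent.L08.AbelianGrp
import Groth.Agent.L08.IdentityComponent
import Groth.Agent.L08.GrpDim
import Groth.Agent.L06.Dim
import Groth.Agent.L21.CurveTop
import Groth.Agent.L23.FppfSmooth
import Groth.Agent.L26.AV.Hom
import Groth.Agent.S0086
import Groth.Agent.S11994
import Groth.Agent.S3280

/-!
# The largest proper quotient of an algebraic group
-/

set_option autoImplicit false
set_option backward.isDefEq.respectTransparency.types false
set_option linter.style.haveILetI false

universe u

open CategoryTheory CategoryTheory.Limits MonoidalCategory CartesianMonoidalCategory MonObj AlgebraicGeometry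
open Groth.L25

noncomputable section

namespace Groth.L08.Albanese

variable {k : Type u} [Field k]

/-- A pairing of two homomorphisms is a homomorphism. -/
theorem isMonHom_lift {G A B : Over (Spec (CommRingCat.of k))} [GrpObj G] [GrpObj A] [GrpObj B]
    (f : G ⟶ A) [IsMonHom f] (g : G ⟶ B) [IsMonHom g] : IsMonHom (CartesianMonoidalCategory.lift f g) := by
  constructor
  · refine CartesianMonoidalCategory.hom_ext _ _ ?_ ?_
    · rw [Category.assoc, lift_fst, IsMonHom.one_hom, IsMonHom.one_hom (f := fst A B)]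
    · rw [Category.assoc, lift_snd, IsMonHom.one_hom, IsMonHom.one_hom (f := snd A B)]
  · refine CartesianMonoidalCategory.hom_ext _ _ ?_ ?_
    · rw [Category.assoc, lift_fst, IsMonHom.mul_hom, Category.assoc, IsMonHom.mul_hom (f := fst A B),
        tensorHom_comp_tensorHom_assoc, lift_fst]
    · rw [Category.assoc, lift_snd, IsMonHom.mul_hom, Category.assoc, IsMonHom.mul_hom (f := snd A B),
        tensorHom_comp_tensorHom_assoc, lift_snd]

/-- A homomorphism onto a proper group. -/
structure Tri (G : Over (Spec (CommRingCat.of k))) [GrpObj G] where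
  A : Over (Spec (CommRingCat.of k))
  grp : GrpObj A
  α : G ⟶ A
  hom : IsMonHom α
  surj : Surjective α.left
  flat : Flat α.left
  lfp : LocallyOfFinitePresentation α.left
  proper : IsProper A.hom

attribute [local instance] Tri.grp

/-- There is a largest proper quotient. -/
theorem exists_largest (G : Over (Spec (CommRingCat.of k))) [GrpObj G] [LocallyOfFiniteType G.hom]
    [QuasiCompact G.hom] :
    ∃ (A : Over (Spec (CommRingCat.of k))) (_ : GrpObj A) (α : G ⟶ A),
      IsMonHom α ∧ Surjective α.left ∧ Flat α.left ∧ LocallyOfFinitePresentation α.left ∧ IsProper A.hom ∧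
        ∀ {N : Over (Spec (CommRingCat.of k))} (i : N ⟶ G), AlgGrp.IsKernel i α →
          ∀ (B : Over (Spec (CommRingCat.of k))) [GrpObj B] [IsProper B.hom] (q : G ⟶ B) [IsMonHom q], i ≫ q = 1 := by
  classical
  haveI : CompactSpace G.left := QuasiCompact.compactSpace_of_compactSpace G.hom
  haveI : IsLocallyNoetherian G.left := LocallyOfFiniteType.isLocallyNoetherian G.hom
  let 𝒰 := G.left.affineCover.finiteSubcover
  let U : 𝒰.I₀ → G.left.affineOpens := fun i => ⟨(𝒰.f i).opensRange, isAffineOpen_opensRange (𝒰.f i)⟩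
  haveI : ∀ i, IsNoetherianRing Γ(G.left, (U i).1) := fun i => IsLocallyNoetherian.component_noetherian (U i)
  let K : Tri G → G.left.IdealSheafData := fun t => (pullback.fst t.α η[t.A]).left.ker
  let F : Tri G → ∀ i, (Ideal Γ(G.left, (U i).1))ᵒᵈ := fun t i => OrderDual.toDual ((K t).ideal (U i))
  haveI : WellFoundedLT (∀ i, (Ideal Γ(G.left, (U i).1))ᵒᵈ) := inferInstance
  obtain ⟨t₀⟩ : Nonempty (Tri G) := by
    have e : (toUnit G).left = G.hom := (Category.comp_id _).symm.trans (Over.w (toUnit G))
    refine ⟨⟨𝟙_ _, inferInstance, toUnit G, inferInstance, ?_, ?_, ?_, inferInstanceAs (IsProper (𝟙 _))⟩⟩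
    · rw [e]
      exact ⟨fun x => ⟨Component.one G, Subsingleton.elim (α := PrimeSpectrum k) _ _⟩⟩
    · rw [e]; exact (inferInstance : Flat G.hom)
    · rw [e]; exact (inferInstance : LocallyOfFinitePresentation G.hom)
  obtain ⟨_, ⟨t, rfl⟩, hmin⟩ := (wellFounded_lt (α := ∀ i, (Ideal Γ(G.left, (U i).1))ᵒᵈ)).has_min (Set.range F)
    ⟨_, ⟨t₀, rfl⟩⟩
  obtain ⟨A, gA, α, hα, hs, hf, hp, hA⟩ := t
  refine ⟨A, gA, α, hα, hs, hf, hp, hA, fun {N} i sq B _ _ q _ => ?_⟩
  haveI := isMonHom_lift α q
  haveI : IsProper (A ⊗ B).hom := inferInstanceAs (IsProper (pullback.fst A.hom B.hom ≫ A.hom))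
  obtain ⟨C, gC, p, iC, _, _, hpi, _, _, _, _⟩ := AbelianGrp.exists_image (CartesianMonoidalCategory.lift α q)
  haveI : IsProper C.hom := by rw [← Over.w iC]; infer_instance
  let j := pullback.fst α η[A]
  let j' := pullback.fst p η[C]
  have hj' : j' ≫ p = 1 := by
    rw [pullback.condition, Hom.one_def]
    congr 1
    exact toUnit_unique _ _
  have hjl : j' ≫ CartesianMonoidalCategory.lift α q = 1 := by
    rw [← hpi, ← Category.assoc, hj', MonObj.one_comp]
  have hj'α : j' ≫ α = 1 := by
    rw [← lift_fst α q, ← Category.assoc, hjl, MonObj.one_comp (fst A B)]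
  have hj'q : j' ≫ q = 1 := by
    rw [← lift_snd α q, ← Category.assoc, hjl, MonObj.one_comp (snd A B)]
  let z : pullback p η[C] ⟶ pullback α η[A] :=
    pullback.lift j' (toUnit _) (by rw [hj'α, Hom.one_def])
  have hz : z ≫ j = j' := pullback.lift_fst _ _ _
  have hle' : j.left.ker ≤ j'.left.ker := by
    rw [← hz, Over.comp_left]
    exact Scheme.Hom.le_ker_comp _ _
  let tC : Tri G := ⟨C, gC, p, inferInstance, inferInstance, inferInstance, inferInstance, inferInstance⟩
  have hF : ∀ i, j.left.ker.ideal (U i) = j'.left.ker.ideal (U i) := fun i => by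
    have h1 : F tC ≤ F ⟨A, gA, α, hα, hs, hf, hp, hA⟩ := fun i => hle' (U i)
    exact congrArg OrderDual.ofDual (congrFun ((h1.eq_or_lt.resolve_right (hmin _ ⟨_, rfl⟩)).symm) i)
  have hker : j.left.ker = j'.left.ker :=
    Scheme.IdealSheafData.ext_of_iSup_eq_top U 𝒰.iSup_opensRange hF
  haveI : IsClosedImmersion j'.left :=
    MorphismProperty.of_isPullback (P := @IsClosedImmersion)
      ((IsPullback.of_hasPullback p η[C]).map (Over.forget _)).flip (AbelianGrp.isClosedImmersion_one _)
  let w : pullback α η[A] ⟶ pullback p η[C] :=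
    Over.homMk (IsClosedImmersion.lift j'.left j.left hker.ge) (by
      rw [← Over.w j', IsClosedImmersion.lift_fac_assoc]
      exact Over.w j)
  have hw : w ≫ j' = j := Over.OverMorphism.ext (IsClosedImmersion.lift_fac _ _ _)
  let v : N ⟶ pullback α η[A] := pullback.lift i (toUnit N) sq.w
  have hv : v ≫ j = i := pullback.lift_fst _ _ _
  rw [← hv, ← hw, Category.assoc, Category.assoc, hj'q, MonObj.comp_one, MonObj.comp_one]

variable {G : Over (Spec (CommRingCat.of k))} [GrpObj G]

/-- A kernel is normal. -/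
theorem isNormalHom_of_kernel {N A : Over (Spec (CommRingCat.of k))} [GrpObj N] [GrpObj A] {i : N ⟶ G}
    {α : G ⟶ A} [IsMonHom α] (sq : AlgGrp.IsKernel i α) : AlgGrp.IsNormalHom i := by
  intro T g n
  have hk : i ≫ α = 1 := sq.w.trans (Hom.one_def).symm
  obtain ⟨n', hn', -⟩ := sq.exists_lift (g * (n ≫ i) * g⁻¹) (toUnit T) (by
    rw [MonObj.mul_comp, MonObj.mul_comp, GrpObj.inv_comp, Category.assoc, hk, MonObj.comp_one, _root_.mul_one,
      mul_inv_cancel, Hom.one_def])
  exact ⟨n', hn'.symm⟩

/-- The identity component of a normal subgroup of a connected group is normal. -/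
theorem isNormalHom_component [LocallyOfFiniteType G.hom] [ConnectedSpace G.left]
    {N N₀ : Over (Spec (CommRingCat.of k))} [GrpObj N] [GrpObj N₀] [LocallyOfFiniteType N.hom] {i : N ⟶ G} [IsMonHom i] [Mono i]
    (hi : AlgGrp.IsNormalHom i) (j : N₀ ⟶ N) [IsMonHom j] [IsOpenImmersion j.left]
    (hr : Set.range j.left = connectedComponent (Component.one N)) : AlgGrp.IsNormalHom (j ≫ i) := by
  haveI : IsLocallyNoetherian G.left := LocallyOfFiniteType.isLocallyNoetherian G.hom
  haveI : IrreducibleSpace G.left := Component.irreducibleSpace G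
  haveI : GeometricallyIrreducible G.hom := Component.geometricallyIrreducible G
  haveI : UniversallyOpen G.hom := inferInstance
  obtain ⟨c', hc'⟩ := hi (G ⊗ N₀) (fst G N₀) (snd G N₀ ≫ j)
  let e : 𝟙_ (Over (Spec (CommRingCat.of k))) ⟶ G ⊗ N₀ := CartesianMonoidalCategory.lift η[G] η[N₀]
  have he : e ≫ c' = η[N] := by
    rw [← cancel_mono i, Category.assoc, ← hc', IsMonHom.one_hom]
    simp only [e, MonObj.comp_mul, GrpObj.comp_inv, lift_fst, ← Category.assoc, lift_snd]
    simp only [one_eq_one, MonObj.one_comp, _root_.one_mul, _root_.inv_one, _root_.mul_one]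
  intro T g n
  suffices hsub : Set.range c'.left ⊆ Set.range j.left by
    let c : G ⊗ N₀ ⟶ N₀ := Over.homMk (IsOpenImmersion.lift j.left c'.left hsub) (by
      rw [← Over.w j, IsOpenImmersion.lift_fac_assoc]; exact Over.w c')
    have hc : c ≫ j = c' := Over.OverMorphism.ext (IsOpenImmersion.lift_fac _ _ _)
    refine ⟨CartesianMonoidalCategory.lift g n ≫ c, ?_⟩
    rw [Category.assoc, reassoc_of% hc, ← hc', MonObj.comp_mul, MonObj.comp_mul, GrpObj.comp_inv, lift_fst,
      Category.assoc, lift_snd_assoc]
  haveI : LocallyOfFiniteType N₀.hom := by rw [← Over.w j]; infer_instance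
  haveI : IsLocallyNoetherian N₀.left := LocallyOfFiniteType.isLocallyNoetherian N₀.hom
  haveI : ConnectedSpace N₀.left := by
    refine connectedSpace_iff_univ.2 ⟨⟨Component.one N₀, trivial⟩, ?_⟩
    have h := (isConnected_connectedComponent (x := Component.one N)).isPreconnected
    rw [← hr, ← Set.image_univ] at h
    exact (j.left.isOpenEmbedding.toIsEmbedding.toIsInducing.isPreconnected_image).1 h
  haveI : IrreducibleSpace N₀.left := Component.irreducibleSpace N₀
  haveI : IrreducibleSpace (G ⊗ N₀).left := inferInstanceAs (IrreducibleSpace ↥(pullback G.hom N₀.hom))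
  rw [hr]
  rintro _ ⟨x, rfl⟩
  refine IdComp.mem_component_of_preconnected c'.left (c := e.left (IsLocalRing.closedPoint k)) ?_ x
  exact congr(($he).left (IsLocalRing.closedPoint k))

/-- A group with an open identity point has dimension zero. -/
theorem isFinite_of_isOpen_one (K : Over (Spec (CommRingCat.of k))) [GrpObj K] [LocallyOfFiniteType K.hom]
    [QuasiCompact K.hom] (h : IsOpen ({Component.one K} : Set K.left)) : IsFinite K.hom := by
  haveI : CompactSpace K.left := QuasiCompact.compactSpace_of_compactSpace K.hom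
  haveI : IsLocallyNoetherian K.left := LocallyOfFiniteType.isLocallyNoetherian K.hom
  haveI : IsNoetherian K.left := ⟨⟩
  haveI : TopologicalSpace.NoetherianSpace K.left := inferInstance
  obtain ⟨n, hall, hn⟩ := GrpDim.exists_dim K
  have hmax : ∀ w, w ⤳ Component.one K → w = Component.one K := fun w hw => hw.mem_open h rfl
  have h1 := hall _ hmax
  rw [(GrpDim.isClosed_one K).closure_eq] at h1
  have h0 : topologicalKrullDim ({Component.one K} : Set K.left) ≤ 0 :=
    topologicalKrullDim_zero_of_discreteTopology _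
  obtain ⟨_, _⟩ := Groth.L06.Dim.discreteTopology_of_dim_le_zero (X := K.left) (by rw [hn, ← h1]; exact h0)
  exact Groth.L21.CurveTop.isFinite_of_discrete K.hom

/-- The kernel of the largest proper quotient of a connected group is connected. -/
theorem exists_connected (G : Over (Spec (CommRingCat.of k))) [GrpObj G] [LocallyOfFiniteType G.hom]
    [QuasiCompact G.hom] [ConnectedSpace G.left] :
    ∃ (N : Over (Spec (CommRingCat.of k))) (_ : GrpObj N) (i : N ⟶ G) (A : Over (Spec (CommRingCat.of k)))
      (_ : GrpObj A) (α : G ⟶ A),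
      IsMonHom i ∧ IsClosedImmersion i.left ∧ AlgGrp.IsNormalHom i ∧ ConnectedSpace N.left ∧
      IsProper A.hom ∧ IsMonHom α ∧ Surjective α.left ∧ Flat α.left ∧ LocallyOfFinitePresentation α.left ∧
      AlgGrp.IsKernel i α ∧
      ∀ (B : Over (Spec (CommRingCat.of k))) [GrpObj B] [IsProper B.hom] (q : G ⟶ B) [IsMonHom q], i ≫ q = 1 := by
  obtain ⟨A, gA, α, _, _, _, _, _, hlarge⟩ := exists_largest G
  obtain ⟨N, gN, i, _, _, -, sq⟩ := AbelianGrp.exists_kernel α
  haveI : Mono i := Over.mono_of_mono_left i
  haveI : LocallyOfFiniteType N.hom := by rw [← Over.w i]; infer_instance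
  haveI : QuasiCompact N.hom := by rw [← Over.w i]; infer_instance
  have hN : AlgGrp.IsNormalHom i := isNormalHom_of_kernel sq
  refine ⟨N, gN, i, A, gA, α, inferInstance, inferInstance, hN, ?_, inferInstance, inferInstance, inferInstance,
    inferInstance, inferInstance, sq, fun B _ _ q _ => hlarge i sq B q⟩
  obtain ⟨N₀, gN₀, j, _, _, _, hr⟩ := IdComp.exists_identityComponent N
  haveI : LocallyOfFiniteType N₀.hom := by rw [← Over.w j]; infer_instance
  haveI : IsMonHom (j ≫ i) := inferInstance
  haveI : IsClosedImmersion (j ≫ i).left := inferInstanceAs (IsClosedImmersion (j.left ≫ i.left))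
  haveI : Mono (j ≫ i) := Over.mono_of_mono_left _
  haveI : Mono j := Over.mono_of_mono_left _
  obtain ⟨Y, p, _, _, _, sqp⟩ := GQuot.exists_quotient_field (j ≫ i)
  obtain ⟨X, q, _, _, _, sqq, hlft, -, hqc, -, -⟩ := GQuot.exists_struct p sqp
  obtain ⟨gX, _, hker⟩ := GQuot.exists_grp (isNormalHom_component hN j hr) q sqq
  haveI := hlft inferInstance
  haveI := hqc inferInstance
  obtain ⟨π, _, hπ, -⟩ := Groth.Agent.S3280.result k G N₀ X A q (j ≫ i) hker α (by
    rw [Category.assoc, sq.w, ← Category.assoc]
    congr 1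
    exact toUnit_unique _ _)
  obtain ⟨K, gK, κ, _, _, -, sqK⟩ := AbelianGrp.exists_kernel π
  haveI : Mono κ := Over.mono_of_mono_left κ
  haveI : LocallyOfFiniteType K.hom := by rw [← Over.w κ]; infer_instance
  have hκ : κ ≫ π = 1 := sqK.w.trans (Hom.one_def).symm
  obtain ⟨h, hh, -⟩ := sqK.exists_lift (i ≫ q) (toUnit N) (by rw [Category.assoc, hπ, sq.w])
  have sqN : IsPullback h i κ q := by
    refine IsPullback.mk' hh (fun T a b _ e2 => ?_) (fun T a b e => ?_)
    · exact (cancel_mono i).1 e2
    · obtain ⟨c, hc, -⟩ := sq.exists_lift b (toUnit T) (by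
        rw [← hπ, ← Category.assoc, ← e, Category.assoc, hκ, MonObj.comp_one, Hom.one_def])
      exact ⟨c, by rw [← cancel_mono κ, Category.assoc, hh, reassoc_of% hc, e], hc⟩
  have hsN := (sqN.map (Over.forget _)).flip
  haveI : Surjective h.left :=
    MorphismProperty.of_isPullback (P := @Surjective) hsN.flip.flip ‹Surjective q.left›
  haveI : Flat h.left := MorphismProperty.of_isPullback (P := @Flat) hsN.flip.flip ‹Flat q.left›
  haveI : LocallyOfFinitePresentation h.left :=
    MorphismProperty.of_isPullback (P := @LocallyOfFinitePresentation) hsN.flip.flip ‹_›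
  have hone : h.left '' Set.range j.left = {Component.one K} := by
    have e1 : j ≫ h = toUnit N₀ ≫ η[K] := by
      rw [← cancel_mono κ, Category.assoc, hh, Category.assoc, IsMonHom.one_hom, ← Category.assoc, hker.w]
    refine Set.eq_singleton_iff_unique_mem.2 ⟨?_, ?_⟩
    · exact ⟨_, ⟨Component.one N₀, rfl⟩, (congr(($e1).left (Component.one N₀))).trans
        (congrArg η[K].left (Subsingleton.elim (α := PrimeSpectrum k) _ _))⟩
    · rintro _ ⟨_, ⟨x, rfl⟩, rfl⟩
      exact (congr(($e1).left x)).trans (congrArg η[K].left (Subsingleton.elim (α := PrimeSpectrum k) _ _))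
  haveI : QuasiCompact K.hom := by
    haveI : CompactSpace N.left := QuasiCompact.compactSpace_of_compactSpace N.hom
    haveI : CompactSpace K.left := h.left.surjective.compactSpace h.left.continuous
    exact (quasiCompact_iff_compactSpace K.hom).2 inferInstance
  haveI : IsFinite K.hom := isFinite_of_isOpen_one K (by
    rw [← hone]; exact h.left.isOpenMap _ j.left.isOpenEmbedding.isOpen_range)
  let t : K ⊗ G ⟶ X := (fst K G ≫ κ) * (snd K G ≫ q)
  have sqt : IsPullback t (snd K G) π α := by
    refine IsPullback.mk' ?_ (fun T a b e1 e2 => ?_) (fun T a g e => ?_)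
    · simp only [t, MonObj.mul_comp, Category.assoc, hκ, hπ, MonObj.comp_one, _root_.one_mul]
    · refine CartesianMonoidalCategory.hom_ext _ _ ?_ e2
      simp only [t, MonObj.comp_mul, reassoc_of% e2, mul_left_inj] at e1
      rw [← Category.assoc, ← Category.assoc, cancel_mono] at e1
      exact e1
    · obtain ⟨f, hf, -⟩ := sqK.exists_lift (a * (g ≫ q)⁻¹) (toUnit T) (by
        rw [MonObj.mul_comp, GrpObj.inv_comp, Category.assoc, hπ, e, mul_inv_cancel, Hom.one_def])
      refine ⟨CartesianMonoidalCategory.lift f g, ?_, lift_snd _ _⟩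
      simp only [t, MonObj.comp_mul, lift_fst_assoc, lift_snd_assoc, hf, inv_mul_cancel_right]
  haveI : IsProper (snd K G).left :=
    inferInstanceAs (IsProper (pullback.snd K.hom G.hom))
  haveI : QuasiCompact α.left := AbelianGrp.quasiCompact_left α
  haveI : IsProper π.left :=
    haveI := Groth.Agent.S0086.result.{u}
    MorphismProperty.of_isPullback_of_descendsAlong (P := @IsProper) (Q := @Surjective ⊓ @Flat ⊓ @QuasiCompact)
      (sqt.map (Over.forget _)).flip ⟨⟨‹Surjective α.left›, ‹Flat α.left›⟩, ‹QuasiCompact α.left›⟩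
      ‹IsProper (snd K G).left›
  haveI : IsProper X.hom := by rw [← Over.w π]; infer_instance
  obtain ⟨z, hz, -⟩ := hker.exists_lift i (toUnit N) (by rw [hlarge i sq X q, Hom.one_def])
  have hz' : z ≫ j = 𝟙 N := by rw [← cancel_mono i, Category.assoc, hz, Category.id_comp]
  have huniv : connectedComponent (Component.one N) = Set.univ := by
    rw [← hr]
    exact Set.eq_univ_of_forall fun y => ⟨z.left y, congr(($hz').left y)⟩
  exact connectedSpace_iff_univ.2 (huniv ▸ isConnected_connectedComponent)

end Groth.L08.Albanese
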