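import Groth.Agent.L08.Albanese.EtaleDescent

/-!
# Homomorphisms of abelian varieties and primary extensions
-/

set_option autoImplicit false
set_option backward.isDefEq.respectTransparency.types false
set_option linter.style.haveILetI false

universe u v v' w w'

open CategoryTheory CategoryTheory.Limits MonoidalCategory CartesianMonoidalCategory MonObj AlgebraicGeometry

noncomputable section

namespace Groth.L08.Albanese

section General

variable {C : Type w} [Category.{v} C] [CartesianMonoidalCategory C] {D : Type w'} [Category.{v'} D]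
  [CartesianMonoidalCategory D]

/-- The components of a natural transformation of product preserving functors at groups are homomorphisms. -/
theorem isMonHom_natApp (F F' : C ⥤ D) [F.Monoidal] [F'.Monoidal] (σ : F ⟶ F') (G : C) [GrpObj G]
    (i : GrpObj (F.obj G)) (i' : GrpObj (F'.obj G))
    (hη : (letI := i; η[F.obj G]) = Functor.LaxMonoidal.ε F ≫ F.map η[G])
    (hμ : (letI := i; μ[F.obj G]) = Functor.LaxMonoidal.μ F G G ≫ F.map μ[G])
    (hη' : (letI := i'; η[F'.obj G]) = Functor.LaxMonoidal.ε F' ≫ F'.map η[G])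
    (hμ' : (letI := i'; μ[F'.obj G]) = Functor.LaxMonoidal.μ F' G G ≫ F'.map μ[G]) :
    letI := i; letI := i'; IsMonHom (σ.app G) := by
  letI := i
  letI := i'
  have hsub : ∀ {T : D} (a b : T ⟶ F'.obj (𝟙_ C)), a = b := fun {T} a b => by
    rw [← Category.comp_id a, ← Category.comp_id b, ← (Functor.Monoidal.εIso F').inv_hom_id, ← Category.assoc,
      ← Category.assoc]
    congr 1
    exact toUnit_unique _ _
  refine ⟨?_, ?_⟩
  · rw [hη, hη']
    rw [Category.assoc, σ.naturality, ← Category.assoc]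
    congr 1
    exact hsub _ _
  · rw [hμ, hμ']
    rw [Category.assoc, σ.naturality, ← Category.assoc, ← Category.assoc]
    congr 1
    rw [← cancel_mono (Functor.Monoidal.μIso F' G G).inv]
    have h1 : (Functor.Monoidal.μIso F' G G).inv ≫ fst (F'.obj G) (F'.obj G) = F'.map (fst G G) :=
      (Iso.inv_comp_eq (Functor.Monoidal.μIso F' G G)).2 (Functor.Monoidal.μ_fst F' G G).symm
    have h2 : (Functor.Monoidal.μIso F' G G).inv ≫ snd (F'.obj G) (F'.obj G) = F'.map (snd G G) :=
      (Iso.inv_comp_eq (Functor.Monoidal.μIso F' G G)).2 (Functor.Monoidal.μ_snd F' G G).symm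
    refine CartesianMonoidalCategory.hom_ext _ _ ?_ ?_
    · simp only [Category.assoc, h1, Functor.Monoidal.μ_fst, tensorHom_fst, ← σ.naturality,
        Functor.Monoidal.μ_fst_assoc]
    · simp only [Category.assoc, h2, Functor.Monoidal.μ_snd, tensorHom_snd, ← σ.naturality,
        Functor.Monoidal.μ_snd_assoc]

end General

theorem η_comp {S₀ S₁ S₂ : Scheme.{u}} (g : S₂ ⟶ S₁) (f : S₁ ⟶ S₀) (G : Over S₀) [GrpObj G] :
    η[Red.bc g (Red.bc f G)] = Functor.LaxMonoidal.ε (Over.pullback f ⋙ Over.pullback g) ≫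
      (Over.pullback f ⋙ Over.pullback g).map η[G] := by
  show Functor.LaxMonoidal.ε (Over.pullback g) ≫
    (Over.pullback g).map (Functor.LaxMonoidal.ε (Over.pullback f) ≫ (Over.pullback f).map η[G]) = _
  rw [Functor.map_comp, Functor.LaxMonoidal.comp_ε, Category.assoc]
  rfl

theorem μ_comp {S₀ S₁ S₂ : Scheme.{u}} (g : S₂ ⟶ S₁) (f : S₁ ⟶ S₀) (G : Over S₀) [GrpObj G] :
    μ[Red.bc g (Red.bc f G)] = Functor.LaxMonoidal.μ (Over.pullback f ⋙ Over.pullback g) G G ≫
      (Over.pullback f ⋙ Over.pullback g).map μ[G] := by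
  show Functor.LaxMonoidal.μ (Over.pullback g) _ _ ≫
    (Over.pullback g).map (Functor.LaxMonoidal.μ (Over.pullback f) G G ≫ (Over.pullback f).map μ[G]) = _
  rw [Functor.map_comp, Functor.LaxMonoidal.comp_μ, Category.assoc]
  rfl

theorem isMonHom_bc_comp {S₀ S₁ S₂ : Scheme.{u}} {g : S₂ ⟶ S₁} {f : S₁ ⟶ S₀} {h : S₂ ⟶ S₀} (hc : g ≫ f = h)
    (G : Over S₀) [GrpObj G] :
    IsMonHom ((Over.pullbackComp g f).inv.app G ≫ eqToHom (congrArg (fun φ => Red.bc φ G) hc) :
      Red.bc g (Red.bc f G) ⟶ Red.bc h G) := by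
  subst hc
  rw [eqToHom_refl, Category.comp_id]
  exact isMonHom_natApp (Over.pullback f ⋙ Over.pullback g) (Over.pullback (g ≫ f)) (Over.pullbackComp g f).inv G
    (Red.grpObj_bc g (Red.bc f G)) (Red.grpObj_bc (g ≫ f) G) (η_comp g f G) (μ_comp g f G) rfl rfl

theorem isMonHom_bc_comp' {S₀ S₁ S₂ : Scheme.{u}} {g : S₂ ⟶ S₁} {f : S₁ ⟶ S₀} {h : S₂ ⟶ S₀} (hc : g ≫ f = h)
    (G : Over S₀) [GrpObj G] :
    IsMonHom (eqToHom (congrArg (fun φ => Red.bc φ G) hc.symm) ≫ (Over.pullbackComp g f).hom.app G :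
      Red.bc h G ⟶ Red.bc g (Red.bc f G)) := by
  subst hc
  rw [eqToHom_refl, Category.id_comp]
  exact isMonHom_natApp (Over.pullback (g ≫ f)) (Over.pullback f ⋙ Over.pullback g) (Over.pullbackComp g f).hom G
    (Red.grpObj_bc (g ≫ f) G) (Red.grpObj_bc g (Red.bc f G)) rfl rfl (η_comp g f G) (μ_comp g f G)

variable {k K : Type u} [Field k] [Field K] [Algebra k K]

/-- Base change of morphisms into separated targets is faithful. -/
theorem map_injective {B C : Over (Spec (CommRingCat.of k))} (f g : B ⟶ C)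
    (e : (Over.pullback (AbVar.ext k K)).map f = (Over.pullback (AbVar.ext k K)).map g) : f = g := by
  haveI : Surjective (AbVar.ext k K) :=
    ⟨fun x => ⟨IsLocalRing.closedPoint K, Subsingleton.elim (α := PrimeSpectrum k) _ _⟩⟩
  haveI : Surjective (pullback.fst B.hom (AbVar.ext k K)) := inferInstance
  haveI : EffectiveEpi (pullback.fst B.hom (AbVar.ext k K)) := inferInstance
  refine Over.OverMorphism.ext ((cancel_epi (pullback.fst B.hom (AbVar.ext k K))).1 ?_)
  rw [← (isPullback_bc_map f).w, ← (isPullback_bc_map g).w, e]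

/-- A homomorphism between constant abelian varieties is constant. -/
theorem exists_hom_descend (h : AbVar.IsPrimaryExt k K) {B C : Over (Spec (CommRingCat.of k))} [GrpObj B] [GrpObj C]
    [IsProper B.hom] [GeometricallyIntegral B.hom] [IsProper C.hom] [GeometricallyIntegral C.hom]
    (f : Red.bc (AbVar.ext k K) B ⟶ Red.bc (AbVar.ext k K) C) [IsMonHom f] :
    ∃ g : B ⟶ C, IsMonHom g ∧ (Over.pullback (AbVar.ext k K)).map g = f := by
  obtain ⟨_, _⟩ := geometricallyIntegral_tensor B C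
  let F := Over.pullback (AbVar.ext k K)
  let BK := Red.bc (AbVar.ext k K) B
  haveI : IsProper BK.hom := MorphismProperty.pullback_snd (P := @IsProper) _ _ ‹_›
  haveI : GeometricallyIntegral BK.hom := MorphismProperty.pullback_snd (P := @GeometricallyIntegral) _ _ ‹_›
  haveI : IsMonHom (F.map (fst B C)) := Groth.L25.MonoClosed.isMonHom_pullbackMap _ _
  haveI : IsMonHom (F.map (snd B C)) := Groth.L25.MonoClosed.isMonHom_pullbackMap _ _
  let μ' := Functor.Monoidal.μIso F B C
  have hm1 : μ'.inv ≫ fst (F.obj B) (F.obj C) = F.map (fst B C) :=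
    (Iso.inv_comp_eq μ').2 (Functor.Monoidal.μ_fst F B C).symm
  have hm2 : μ'.inv ≫ snd (F.obj B) (F.obj C) = F.map (snd B C) :=
    (Iso.inv_comp_eq μ').2 (Functor.Monoidal.μ_snd F B C).symm
  have hjoint : ∀ {T : Over (Spec (CommRingCat.of K))} (a b : T ⟶ F.obj (B ⊗ C)), a ≫ F.map (fst B C) = b ≫ F.map (fst B C) →
      a ≫ F.map (snd B C) = b ≫ F.map (snd B C) → a = b := by
    intro T a b e1 e2
    rw [← Category.comp_id a, ← Category.comp_id b, ← μ'.inv_hom_id, ← Category.assoc, ← Category.assoc]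
    congr 1
    refine CartesianMonoidalCategory.hom_ext _ _ ?_ ?_
    · rw [Category.assoc, Category.assoc, hm1, e1]
    · rw [Category.assoc, Category.assoc, hm2, e2]
  let ψ : BK ⟶ Red.bc (AbVar.ext k K) (B ⊗ C) :=
    CartesianMonoidalCategory.lift (𝟙 BK) f ≫ Functor.LaxMonoidal.μ F B C
  have hψ1 : ψ ≫ F.map (fst B C) = 𝟙 BK := by rw [Category.assoc, Functor.Monoidal.μ_fst, lift_fst]
  have hψ2 : ψ ≫ F.map (snd B C) = f := by rw [Category.assoc, Functor.Monoidal.μ_snd, lift_snd]
  haveI : IsMonHom ψ :=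
    { one_hom := hjoint _ _
        (by rw [Category.assoc, hψ1, IsMonHom.one_hom (f := F.map (fst B C))]; exact Category.comp_id _)
        (by rw [Category.assoc, hψ2, IsMonHom.one_hom, IsMonHom.one_hom (f := F.map (snd B C))])
      mul_hom := hjoint _ _
        (by rw [Category.assoc, hψ1, Category.assoc, IsMonHom.mul_hom (f := F.map (fst B C)),
          tensorHom_comp_tensorHom_assoc, hψ1, id_tensorHom_id, Category.id_comp]; exact Category.comp_id _)
        (by rw [Category.assoc, hψ2, IsMonHom.mul_hom, Category.assoc, IsMonHom.mul_hom (f := F.map (snd B C)),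
          tensorHom_comp_tensorHom_assoc, hψ2]) }
  haveI : IsSeparated (F.map (fst B C)).left := by
    haveI : IsProper (Red.bc (AbVar.ext k K) (B ⊗ C)).hom := MorphismProperty.pullback_snd (P := @IsProper) _ _ ‹_›
    haveI : IsSeparated ((F.map (fst B C)).left ≫ BK.hom) := by rw [Over.w (F.map (fst B C))]; infer_instance
    exact IsSeparated.of_comp _ BK.hom
  haveI : IsClosedImmersion ψ.left := by
    haveI : IsClosedImmersion (ψ.left ≫ (F.map (fst B C)).left) := by
      rw [← Over.comp_left, hψ1]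
      exact inferInstanceAs (IsClosedImmersion (𝟙 BK.left))
    exact IsClosedImmersion.of_comp _ (F.map (fst B C)).left
  obtain ⟨D, gD, i, _, _, _, _, e, he⟩ := exists_descend h (B ⊗ C) BK ψ
  let d : D ⟶ B := i ≫ fst B C
  haveI : IsMonHom d := inferInstanceAs (IsMonHom (i ≫ fst B C))
  have hd : F.map d = e.hom := by rw [Functor.map_comp, ← he, Category.assoc, hψ1, Category.comp_id]
  haveI : IsIso d.left := by
    haveI : Surjective (AbVar.ext k K) :=
      ⟨fun x => ⟨IsLocalRing.closedPoint K, Subsingleton.elim (α := PrimeSpectrum k) _ _⟩⟩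
    haveI : IsIso (F.map d) := hd ▸ inferInstance
    haveI hi : IsIso (F.map d).left := inferInstanceAs (IsIso ((Over.forget _).map (F.map d)))
    exact MorphismProperty.of_isPullback_of_descendsAlong (P := MorphismProperty.isomorphisms Scheme.{u})
      (Q := @Surjective ⊓ @Flat ⊓ @QuasiCompact) (isPullback_bc_map (K := K) d)
      ⟨⟨inferInstanceAs (Surjective (pullback.fst B.hom (AbVar.ext k K))),
        inferInstanceAs (Flat (pullback.fst B.hom (AbVar.ext k K)))⟩,
        inferInstanceAs (QuasiCompact (pullback.fst B.hom (AbVar.ext k K)))⟩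
      hi
  haveI : IsIso ((Over.forget _).map d) := ‹IsIso d.left›
  haveI : IsIso d := isIso_of_reflects_iso d (Over.forget _)
  haveI : IsMonHom (CategoryTheory.inv d) :=
    { one_hom := by rw [← cancel_mono d, Category.assoc, IsIso.inv_hom_id, Category.comp_id, IsMonHom.one_hom]
      mul_hom := by
        rw [← cancel_mono d, Category.assoc, Category.assoc, IsIso.inv_hom_id, Category.comp_id, IsMonHom.mul_hom,
          tensorHom_comp_tensorHom_assoc, IsIso.inv_hom_id, id_tensorHom_id, Category.id_comp] }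
  refine ⟨CategoryTheory.inv d ≫ i ≫ snd B C, inferInstance, ?_⟩
  rw [Functor.map_comp, Functor.map_comp, Functor.map_inv, IsIso.inv_comp_eq, hd, ← he, Category.assoc, hψ2]

end Groth.L08.Albanese

namespace Groth.L08.Albanese

variable {S₀ S₁ S₂ : Scheme.{u}} {g : S₂ ⟶ S₁} {f : S₁ ⟶ S₀} {h : S₂ ⟶ S₀}

/-- Naturality of the comparison of base changes. -/
theorem bc_comp_naturality (hc : g ≫ f = h) {X Y : Over S₀} (a : X ⟶ Y) :
    ((Over.pullbackComp g f).inv.app X ≫ eqToHom (congrArg (fun φ => Red.bc φ X) hc) :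
        Red.bc g (Red.bc f X) ⟶ Red.bc h X) ≫ (Over.pullback h).map a =
      (Over.pullback g).map ((Over.pullback f).map a) ≫
        ((Over.pullbackComp g f).inv.app Y ≫ eqToHom (congrArg (fun φ => Red.bc φ Y) hc)) := by
  subst hc
  simp only [eqToHom_refl, Category.comp_id]
  exact ((Over.pullbackComp g f).inv.naturality a).symm

/-- Naturality of the inverse comparison of base changes. -/
theorem bc_comp_naturality' (hc : g ≫ f = h) {X Y : Over S₀} (a : X ⟶ Y) :
    (Over.pullback h).map a ≫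
        (eqToHom (congrArg (fun φ => Red.bc φ Y) hc.symm) ≫ (Over.pullbackComp g f).hom.app Y :
          Red.bc h Y ⟶ Red.bc g (Red.bc f Y)) =
      (eqToHom (congrArg (fun φ => Red.bc φ X) hc.symm) ≫ (Over.pullbackComp g f).hom.app X) ≫
        (Over.pullback g).map ((Over.pullback f).map a) := by
  subst hc
  simp only [eqToHom_refl, Category.id_comp]
  exact (Over.pullbackComp g f).hom.naturality a

/-- The comparisons are inverse to each other. -/
theorem bc_comp_inv_hom (hc : g ≫ f = h) (X : Over S₀) :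
    ((Over.pullbackComp g f).inv.app X ≫ eqToHom (congrArg (fun φ => Red.bc φ X) hc) :
        Red.bc g (Red.bc f X) ⟶ Red.bc h X) ≫
      (eqToHom (congrArg (fun φ => Red.bc φ X) hc.symm) ≫ (Over.pullbackComp g f).hom.app X) = 𝟙 _ := by
  subst hc
  simp

/-- The comparisons are inverse to each other. -/
theorem bc_comp_hom_inv (hc : g ≫ f = h) (X : Over S₀) :
    (eqToHom (congrArg (fun φ => Red.bc φ X) hc.symm) ≫ (Over.pullbackComp g f).hom.app X :
        Red.bc h X ⟶ Red.bc g (Red.bc f X)) ≫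
      ((Over.pullbackComp g f).inv.app X ≫ eqToHom (congrArg (fun φ => Red.bc φ X) hc)) = 𝟙 _ := by
  subst hc
  simp

/-- The comparison is an isomorphism on underlying schemes. -/
theorem isIso_bc_comp' (hc : g ≫ f = h) (X : Over S₀) :
    IsIso (eqToHom (congrArg (fun φ => Red.bc φ X) hc.symm) ≫ (Over.pullbackComp g f).hom.app X :
      Red.bc h X ⟶ Red.bc g (Red.bc f X)).left := by
  haveI : IsIso (eqToHom (congrArg (fun φ => Red.bc φ X) hc.symm) ≫ (Over.pullbackComp g f).hom.app X :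
      Red.bc h X ⟶ Red.bc g (Red.bc f X)) := ⟨_, bc_comp_hom_inv hc X, bc_comp_inv_hom hc X⟩
  let e : Red.bc h X ⟶ Red.bc g (Red.bc f X) :=
    eqToHom (congrArg (fun φ => Red.bc φ X) hc.symm) ≫ (Over.pullbackComp g f).hom.app X
  exact inferInstanceAs (IsIso ((Over.forget S₂).map e))

/-- The comparison is an isomorphism on underlying schemes. -/
theorem isIso_bc_comp (hc : g ≫ f = h) (X : Over S₀) :
    IsIso ((Over.pullbackComp g f).inv.app X ≫ eqToHom (congrArg (fun φ => Red.bc φ X) hc) :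
      Red.bc g (Red.bc f X) ⟶ Red.bc h X).left := by
  haveI : IsIso ((Over.pullbackComp g f).inv.app X ≫ eqToHom (congrArg (fun φ => Red.bc φ X) hc) :
      Red.bc g (Red.bc f X) ⟶ Red.bc h X) := ⟨_, bc_comp_inv_hom hc X, bc_comp_hom_inv hc X⟩
  let e : Red.bc g (Red.bc f X) ⟶ Red.bc h X :=
    (Over.pullbackComp g f).inv.app X ≫ eqToHom (congrArg (fun φ => Red.bc φ X) hc)
  exact inferInstanceAs (IsIso ((Over.forget S₂).map e))

end Groth.L08.Albanese

namespace Groth.L08.Albanese

variable {S₀ S₁ S₂ : Scheme.{u}} {g : S₂ ⟶ S₁} {f : S₁ ⟶ S₀} {h : S₂ ⟶ S₀}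

theorem isMonHom_bc_comp'_comp (hc : g ≫ f = h) (G : Over S₀) [GrpObj G] {Y : Over S₂} [GrpObj Y]
    (m : Red.bc g (Red.bc f G) ⟶ Y) [IsMonHom m] :
    IsMonHom (eqToHom (congrArg (fun φ => Red.bc φ G) hc.symm) ≫ (Over.pullbackComp g f).hom.app G ≫ m :
      Red.bc h G ⟶ Y) := by
  let e : Red.bc h G ⟶ Red.bc g (Red.bc f G) :=
    eqToHom (congrArg (fun φ => Red.bc φ G) hc.symm) ≫ (Over.pullbackComp g f).hom.app G
  haveI : IsMonHom e := isMonHom_bc_comp' hc G
  have he : (eqToHom (congrArg (fun φ => Red.bc φ G) hc.symm) ≫ (Over.pullbackComp g f).hom.app G ≫ m :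
      Red.bc h G ⟶ Y) = e ≫ m := (Category.assoc _ _ _).symm
  rw [he]
  infer_instance

theorem isFinite_bc_comp'_comp (hc : g ≫ f = h) (G : Over S₀) {Y : Over S₂} (m : Red.bc g (Red.bc f G) ⟶ Y)
    [IsFinite m.left] :
    IsFinite (eqToHom (congrArg (fun φ => Red.bc φ G) hc.symm) ≫ (Over.pullbackComp g f).hom.app G ≫ m :
      Red.bc h G ⟶ Y).left := by
  let e : Red.bc h G ⟶ Red.bc g (Red.bc f G) :=
    eqToHom (congrArg (fun φ => Red.bc φ G) hc.symm) ≫ (Over.pullbackComp g f).hom.app G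
  haveI : IsIso e.left := isIso_bc_comp' hc G
  have he : (eqToHom (congrArg (fun φ => Red.bc φ G) hc.symm) ≫ (Over.pullbackComp g f).hom.app G ≫ m :
      Red.bc h G ⟶ Y) = e ≫ m := (Category.assoc _ _ _).symm
  rw [he, Over.comp_left]
  infer_instance

end Groth.L08.Albanese

namespace Groth.L08.Albanese

variable {S₀ S₁ S₂ : Scheme.{u}} {g : S₂ ⟶ S₁} {f : S₁ ⟶ S₀} {h : S₂ ⟶ S₀}

/-- Factorisations through composed base changes. -/
theorem fac_bc_comp' (hc : g ≫ f = h) {X Y : Over S₀} (a : X ⟶ Y) {Z : Over S₂}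
    (m : Red.bc g (Red.bc f Y) ⟶ Z) (β : Red.bc h X ⟶ Z)
    (e : (Over.pullback g).map ((Over.pullback f).map a) ≫ m =
      ((Over.pullbackComp g f).inv.app X ≫ eqToHom (congrArg (fun φ => Red.bc φ X) hc) :
        Red.bc g (Red.bc f X) ⟶ Red.bc h X) ≫ β) :
    (Over.pullback h).map a ≫
      (eqToHom (congrArg (fun φ => Red.bc φ Y) hc.symm) ≫ (Over.pullbackComp g f).hom.app Y ≫ m :
        Red.bc h Y ⟶ Z) = β := by
  have h1 := bc_comp_naturality' hc a
  have h2 := bc_comp_hom_inv hc X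
  calc _ = ((Over.pullback h).map a ≫
        (eqToHom (congrArg (fun φ => Red.bc φ Y) hc.symm) ≫ (Over.pullbackComp g f).hom.app Y :
          Red.bc h Y ⟶ Red.bc g (Red.bc f Y))) ≫ m := by simp only [Category.assoc]
    _ = _ := by rw [h1, Category.assoc, e, ← Category.assoc, h2, Category.id_comp]

end Groth.L08.Albanese

namespace Groth.L08.Albanese

variable {S₀ S₁ S₂ : Scheme.{u}} {g : S₂ ⟶ S₁} {f : S₁ ⟶ S₀} {h : S₂ ⟶ S₀}

/-- The comparison out of the iterated base change, composed with a homomorphism, is a homomorphism. -/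
theorem isMonHom_bc_comp_comp (hc : g ≫ f = h) (G : Over S₀) [GrpObj G] {Z : Over S₂} [GrpObj Z]
    (β : Red.bc h G ⟶ Z) [IsMonHom β] :
    IsMonHom (((Over.pullbackComp g f).inv.app G ≫ eqToHom (congrArg (fun φ => Red.bc φ G) hc) :
      Red.bc g (Red.bc f G) ⟶ Red.bc h G) ≫ β) := by
  haveI := isMonHom_bc_comp hc G
  infer_instance

/-- A homomorphism followed by the comparison into the iterated base change is a homomorphism. -/
theorem isMonHom_comp_bc_comp' (hc : g ≫ f = h) (G : Over S₀) [GrpObj G] {Z : Over S₂} [GrpObj Z]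
    (α : Z ⟶ Red.bc h G) [IsMonHom α] :
    IsMonHom (α ≫ (eqToHom (congrArg (fun φ => Red.bc φ G) hc.symm) ≫ (Over.pullbackComp g f).hom.app G :
      Red.bc h G ⟶ Red.bc g (Red.bc f G))) := by
  haveI := isMonHom_bc_comp' hc G
  infer_instance

variable {K K' : Type u} [Field K] [Field K'] [Algebra K K']
  {f' : Spec (CommRingCat.of K) ⟶ S₀} {h' : Spec (CommRingCat.of K') ⟶ S₀}

/-- Descend a homomorphism out of an iterated base change. -/
theorem exists_hom_descend_source (hc : AbVar.ext K K' ≫ f' = h') (hK' : AbVar.IsPrimaryExt K K')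
    (B : Over S₀) [GrpObj B] [IsProper B.hom] [GeometricallyIntegral B.hom]
    (A : Over (Spec (CommRingCat.of K))) [GrpObj A] [IsProper A.hom] [GeometricallyIntegral A.hom]
    (β : Red.bc h' B ⟶ Red.bc (AbVar.ext K K') A) [IsMonHom β] :
    ∃ β₁ : Red.bc f' B ⟶ A, IsMonHom β₁ ∧ (Over.pullback (AbVar.ext K K')).map β₁ =
      ((Over.pullbackComp (AbVar.ext K K') f').inv.app B ≫ eqToHom (congrArg (fun φ => Red.bc φ B) hc) :
        Red.bc (AbVar.ext K K') (Red.bc f' B) ⟶ Red.bc h' B) ≫ β := by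
  haveI : IsProper (Red.bc f' B).hom := MorphismProperty.pullback_snd (P := @IsProper) _ _ ‹_›
  haveI : GeometricallyIntegral (Red.bc f' B).hom :=
    MorphismProperty.pullback_snd (P := @GeometricallyIntegral) _ _ ‹_›
  exact @exists_hom_descend K K' _ _ _ hK' (Red.bc f' B) A _ _ _ _ _ _ _ (isMonHom_bc_comp_comp hc B β)

/-- Descend a homomorphism into an iterated base change. -/
theorem exists_hom_descend_target (hc : AbVar.ext K K' ≫ f' = h') (hK' : AbVar.IsPrimaryExt K K')
    (B : Over S₀) [GrpObj B] [IsProper B.hom] [GeometricallyIntegral B.hom]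
    (A : Over (Spec (CommRingCat.of K))) [GrpObj A] [IsProper A.hom] [GeometricallyIntegral A.hom]
    (α : Red.bc (AbVar.ext K K') A ⟶ Red.bc h' B) [IsMonHom α] :
    ∃ α₁ : A ⟶ Red.bc f' B, IsMonHom α₁ ∧ (Over.pullback (AbVar.ext K K')).map α₁ ≫
      ((Over.pullbackComp (AbVar.ext K K') f').inv.app B ≫ eqToHom (congrArg (fun φ => Red.bc φ B) hc) :
        Red.bc (AbVar.ext K K') (Red.bc f' B) ⟶ Red.bc h' B) = α := by
  haveI : IsProper (Red.bc f' B).hom := MorphismProperty.pullback_snd (P := @IsProper) _ _ ‹_›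
  haveI : GeometricallyIntegral (Red.bc f' B).hom :=
    MorphismProperty.pullback_snd (P := @GeometricallyIntegral) _ _ ‹_›
  let e : Red.bc h' B ⟶ Red.bc (AbVar.ext K K') (Red.bc f' B) :=
    eqToHom (congrArg (fun φ => Red.bc φ B) hc.symm) ≫ (Over.pullbackComp (AbVar.ext K K') f').hom.app B
  obtain ⟨α₁, hα, hα₁⟩ :=
    @exists_hom_descend K K' _ _ _ hK' A (Red.bc f' B) _ _ _ _ _ _ (α ≫ e) (isMonHom_comp_bc_comp' hc B α)
  refine ⟨α₁, hα, ?_⟩
  rw [hα₁, Category.assoc]
  exact (congrArg (α ≫ ·) (bc_comp_hom_inv hc B)).trans (Category.comp_id α)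

/-- Factorisations through composed base changes. -/
theorem fac_bc_comp (hc : g ≫ f = h) {X Y : Over S₀} (a : X ⟶ Y) {Z : Over S₂} {W : Over S₁}
    (m : Z ⟶ Red.bc g W) (l : W ⟶ Red.bc f X) (α₁ : W ⟶ Red.bc f Y) (e : l ≫ (Over.pullback f).map a = α₁)
    (α : Z ⟶ Red.bc h Y)
    (e' : (m ≫ (Over.pullback g).map α₁) ≫
      ((Over.pullbackComp g f).inv.app Y ≫ eqToHom (congrArg (fun φ => Red.bc φ Y) hc) :
        Red.bc g (Red.bc f Y) ⟶ Red.bc h Y) = α) :
    (m ≫ (Over.pullback g).map l ≫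
      ((Over.pullbackComp g f).inv.app X ≫ eqToHom (congrArg (fun φ => Red.bc φ X) hc) :
        Red.bc g (Red.bc f X) ⟶ Red.bc h X)) ≫ (Over.pullback h).map a = α := by
  have h1 := bc_comp_naturality hc a
  rw [Category.assoc, Category.assoc, h1, ← e', ← e, Functor.map_comp]
  simp only [Category.assoc]

end Groth.L08.Albanese

namespace Groth.L08.Albanese

variable {S₀ S₁ S₂ : Scheme.{u}} {g : S₂ ⟶ S₁} {f : S₁ ⟶ S₀} {h : S₂ ⟶ S₀}

/-- A homomorphism followed by the comparison is a homomorphism. -/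
theorem isMonHom_comp_bc_comp (hc : g ≫ f = h) (G : Over S₀) [GrpObj G] {Z : Over S₂} [GrpObj Z]
    (m : Z ⟶ Red.bc g (Red.bc f G)) [IsMonHom m] :
    IsMonHom (m ≫ (Over.pullbackComp g f).inv.app G ≫ eqToHom (congrArg (fun φ => Red.bc φ G) hc) :
      Z ⟶ Red.bc h G) := by
  let e : Red.bc g (Red.bc f G) ⟶ Red.bc h G :=
    (Over.pullbackComp g f).inv.app G ≫ eqToHom (congrArg (fun φ => Red.bc φ G) hc)
  haveI : IsMonHom e := isMonHom_bc_comp hc G
  show IsMonHom (m ≫ e)
  infer_instance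

/-- A surjection followed by the comparison is surjective. -/
theorem surjective_comp_bc_comp (hc : g ≫ f = h) (G : Over S₀) {Z : Over S₂}
    (m : Z ⟶ Red.bc g (Red.bc f G)) [Surjective m.left] :
    Surjective (m ≫ (Over.pullbackComp g f).inv.app G ≫ eqToHom (congrArg (fun φ => Red.bc φ G) hc) :
      Z ⟶ Red.bc h G).left := by
  let e : Red.bc g (Red.bc f G) ⟶ Red.bc h G :=
    (Over.pullbackComp g f).inv.app G ≫ eqToHom (congrArg (fun φ => Red.bc φ G) hc)
  haveI : IsIso e.left := isIso_bc_comp hc G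
  show Surjective (m ≫ e).left
  rw [Over.comp_left]
  infer_instance

end Groth.L08.Albanese

namespace Groth.L08.Albanese

variable {S₀ S₁ S₂ : Scheme.{u}} {g : S₂ ⟶ S₁} {f : S₁ ⟶ S₀} {h : S₂ ⟶ S₀}

/-- Base change of a homomorphism followed by the comparison. -/
theorem props_map_bc_comp (hc : g ≫ f = h) (G : Over S₀) [GrpObj G] {A : Over S₁} [GrpObj A]
    (lam : A ⟶ Red.bc f G) [IsMonHom lam] [Surjective ((Over.pullback g).map lam).left] :
    IsMonHom (M := Red.bc g A) (N := Red.bc h G) ((Over.pullback g).map lam ≫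
        (Over.pullbackComp g f).inv.app G ≫ eqToHom (congrArg (fun φ => Red.bc φ G) hc)) ∧
      Surjective ((Over.pullback g).map lam ≫
        (Over.pullbackComp g f).inv.app G ≫ eqToHom (congrArg (fun φ => Red.bc φ G) hc) :
          Red.bc g A ⟶ Red.bc h G).left := by
  haveI : IsMonHom ((Over.pullback g).map lam) := Groth.L25.MonoClosed.isMonHom_pullbackMap _ _
  exact ⟨isMonHom_comp_bc_comp hc G ((Over.pullback g).map lam),
    surjective_comp_bc_comp hc G ((Over.pullback g).map lam)⟩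

/-- A homomorphism into a base change, followed by a base change and the comparison. -/
theorem props_comp_map_bc_comp (hc : g ≫ f = h) (G : Over S₀) [GrpObj G] {A : Over S₁} [GrpObj A]
    (lam : A ⟶ Red.bc f G) [IsMonHom lam] [Surjective ((Over.pullback g).map lam).left]
    {Z : Over S₂} [GrpObj Z] (l : Z ⟶ Red.bc g A) [IsMonHom l] [Surjective l.left] :
    IsMonHom (M := Z) (N := Red.bc h G) (l ≫ (Over.pullback g).map lam ≫
        (Over.pullbackComp g f).inv.app G ≫ eqToHom (congrArg (fun φ => Red.bc φ G) hc)) ∧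
      Surjective (l ≫ (Over.pullback g).map lam ≫
        (Over.pullbackComp g f).inv.app G ≫ eqToHom (congrArg (fun φ => Red.bc φ G) hc) :
          Z ⟶ Red.bc h G).left := by
  obtain ⟨h1, h2⟩ := props_map_bc_comp hc G lam
  let m : Red.bc g A ⟶ Red.bc h G := (Over.pullback g).map lam ≫
    (Over.pullbackComp g f).inv.app G ≫ eqToHom (congrArg (fun φ => Red.bc φ G) hc)
  haveI : IsMonHom m := h1
  haveI : Surjective m.left := h2
  refine ⟨inferInstanceAs (IsMonHom (l ≫ m)), ?_⟩
  show Surjective (l ≫ m).left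
  rw [Over.comp_left]
  infer_instance

/-- Factorisations through a base change followed by the comparison. -/
theorem fac_map_bc_comp (hc : g ≫ f = h) {X Y : Over S₀} (a : X ⟶ Y) {W : Over S₁}
    (l : W ⟶ Red.bc f X) (α₁ : W ⟶ Red.bc f Y) (e : l ≫ (Over.pullback f).map a = α₁)
    (α : Red.bc g W ⟶ Red.bc h Y)
    (e' : (Over.pullback g).map α₁ ≫
      ((Over.pullbackComp g f).inv.app Y ≫ eqToHom (congrArg (fun φ => Red.bc φ Y) hc) :
        Red.bc g (Red.bc f Y) ⟶ Red.bc h Y) = α) :
    ((Over.pullback g).map l ≫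
      (Over.pullbackComp g f).inv.app X ≫ eqToHom (congrArg (fun φ => Red.bc φ X) hc) :
        Red.bc g W ⟶ Red.bc h X) ≫ (Over.pullback h).map a = α := by
  have h1 := fac_bc_comp hc a (𝟙 _) l α₁ e α (by rw [Category.id_comp]; exact e')
  rw [Category.id_comp] at h1
  exact h1

/-- Factorisations through a composite with a base change followed by the comparison. -/
theorem fac_comp_map_bc_comp (hc : g ≫ f = h) {X Y : Over S₀} (a : X ⟶ Y) {Z : Over S₂} {W : Over S₁}
    (m : Z ⟶ Red.bc g W) (l : W ⟶ Red.bc f X) (α₁ : W ⟶ Red.bc f Y) (e : l ≫ (Over.pullback f).map a = α₁)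
    (α : Z ⟶ Red.bc h Y)
    (e' : m ≫ (Over.pullback g).map α₁ =
      α ≫ (eqToHom (congrArg (fun φ => Red.bc φ Y) hc.symm) ≫ (Over.pullbackComp g f).hom.app Y :
        Red.bc h Y ⟶ Red.bc g (Red.bc f Y))) :
    (m ≫ (Over.pullback g).map l ≫
      (Over.pullbackComp g f).inv.app X ≫ eqToHom (congrArg (fun φ => Red.bc φ X) hc) :
        Z ⟶ Red.bc h X) ≫ (Over.pullback h).map a = α := by
  refine fac_bc_comp hc a m l α₁ e α ?_
  rw [e', Category.assoc]
  exact (congrArg (α ≫ ·) (bc_comp_hom_inv hc Y)).trans (Category.comp_id α)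

end Groth.L08.Albanese
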