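import Groth.Agent.L08.Albanese.Descent
import Groth.Agent.L08.AffHull.AntiAffine
import Groth.Agent.L23.FppfSmooth
import Groth.Agent.L26.AV.FibConst

/-!
# The image of an abelian variety over a primary extension
-/

set_option autoImplicit false
set_option backward.isDefEq.respectTransparency.types false
set_option linter.style.haveILetI false

universe u

open CategoryTheory CategoryTheory.Limits MonoidalCategory CartesianMonoidalCategory MonObj AlgebraicGeometry

noncomputable section

namespace Groth.L08.Albanese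

variable {k K : Type u} [Field k] [Field K]

/-- A smooth connected group is geometrically integral. -/
theorem geometricallyIntegral_of_smooth (G : Over (Spec (CommRingCat.of k))) [GrpObj G] [Smooth G.hom]
    [ConnectedSpace G.left] : GeometricallyIntegral G.hom := by
  haveI := Groth.Agent.AV.geometricallyReduced_of_smooth G.hom
  exact Groth.Agent.AV.geometricallyIntegral_of_connected G

/-- A geometrically integral group is smooth. -/
theorem smooth_of_geometricallyIntegral (G : Over (Spec (CommRingCat.of k))) [GrpObj G]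
    [LocallyOfFiniteType G.hom] [GeometricallyIntegral G.hom] : Smooth G.hom := by
  haveI : GrpObj (Over.mk G.hom) := ‹GrpObj G›
  exact AlgebraicGeometry.smooth_of_grpObj G.hom

/-- Products of abelian varieties are abelian varieties. -/
theorem geometricallyIntegral_tensor (A B : Over (Spec (CommRingCat.of k))) [GrpObj A] [GrpObj B]
    [IsProper A.hom] [GeometricallyIntegral A.hom] [IsProper B.hom] [GeometricallyIntegral B.hom] :
    IsProper (A ⊗ B).hom ∧ GeometricallyIntegral (A ⊗ B).hom := by
  haveI := smooth_of_geometricallyIntegral A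
  haveI := smooth_of_geometricallyIntegral B
  haveI : IsProper (A ⊗ B).hom := inferInstanceAs (IsProper (pullback.fst A.hom B.hom ≫ A.hom))
  haveI : Smooth (A ⊗ B).hom := inferInstanceAs (Smooth (pullback.fst A.hom B.hom ≫ A.hom))
  haveI : ConnectedSpace A.left := GeometricallyConnected.connectedSpace_of_subsingleton A.hom
  haveI : ConnectedSpace (A ⊗ B).left := inferInstanceAs (ConnectedSpace ↥(pullback A.hom B.hom))
  exact ⟨inferInstance, geometricallyIntegral_of_smooth (A ⊗ B)⟩

variable [Algebra k K]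

/-- The image of a homomorphism into a constant abelian variety is constant. -/
theorem exists_image_descend (h : AbVar.IsPrimaryExt k K) {A : Over (Spec (CommRingCat.of K))} [GrpObj A]
    [IsProper A.hom] [GeometricallyIntegral A.hom]
    (B : Over (Spec (CommRingCat.of k))) [GrpObj B] [IsProper B.hom] [GeometricallyIntegral B.hom]
    (β : A ⟶ Red.bc (AbVar.ext k K) B) [IsMonHom β] :
    ∃ (D : Over (Spec (CommRingCat.of k))) (_ : GrpObj D) (i : D ⟶ B) (p : A ⟶ Red.bc (AbVar.ext k K) D),
      IsProper D.hom ∧ GeometricallyIntegral D.hom ∧ IsMonHom i ∧ IsMonHom p ∧ Surjective p.left ∧ Flat p.left ∧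
        LocallyOfFinitePresentation p.left ∧ p ≫ (Over.pullback (AbVar.ext k K)).map i = β := by
  haveI : IsProper (Red.bc (AbVar.ext k K) B).hom := MorphismProperty.pullback_snd (P := @IsProper) _ _ ‹_›
  obtain ⟨C, gC, p, iC, _, _, hpi, _, _, _, _⟩ := AbelianGrp.exists_image β
  haveI : IsProper C.hom := by rw [← Over.w iC]; infer_instance
  haveI := smooth_of_geometricallyIntegral A
  haveI hA : Smooth (p.left ≫ C.hom) := by rw [Over.w p]; infer_instance
  haveI : Smooth C.hom := Groth.L23.FppfSmooth.smooth_of_fppf_comp p.left C.hom hA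
  haveI : ConnectedSpace A.left := GeometricallyConnected.connectedSpace_of_subsingleton A.hom
  haveI : ConnectedSpace C.left := p.left.surjective.connectedSpace p.left.continuous
  haveI := geometricallyIntegral_of_smooth C
  obtain ⟨D, gD, i, _, _, _, _, e, he⟩ := exists_descend h B C iC
  haveI : Mono i := Over.mono_of_mono_left i
  let F := Over.pullback (AbVar.ext k K)
  haveI : Mono (F.map i) := Functor.map_mono F i
  haveI : IsMonHom (F.map i) := Groth.L25.MonoClosed.isMonHom_pullbackMap _ _
  have he' : e.inv ≫ F.map i = iC := by rw [Iso.inv_comp_eq]; exact he.symm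
  haveI : IsMonHom e.inv :=
    { one_hom := by rw [← cancel_mono (F.map i), Category.assoc, he', IsMonHom.one_hom, IsMonHom.one_hom]
      mul_hom := by
        rw [← cancel_mono (F.map i), Category.assoc, Category.assoc, he', IsMonHom.mul_hom, IsMonHom.mul_hom,
          tensorHom_comp_tensorHom_assoc, he'] }
  haveI : IsIso e.inv.left := inferInstanceAs (IsIso ((Over.forget _).mapIso e).inv)
  refine ⟨D, gD, i, p ≫ e.inv, inferInstance, inferInstance, inferInstance, inferInstance, ?_, ?_, ?_, by
    rw [Category.assoc, he', hpi]⟩ <;> rw [Over.comp_left] <;> infer_instance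

/-- A constant quotient of `A`. -/
structure CTri (k : Type u) {K : Type u} [Field k] [Field K] [Algebra k K] (A : Over (Spec (CommRingCat.of K)))
    [GrpObj A] where
  B : Over (Spec (CommRingCat.of k))
  grp : GrpObj B
  α : A ⟶ Red.bc (AbVar.ext k K) B
  hom : IsMonHom α
  surj : Surjective α.left
  flat : Flat α.left
  lfp : LocallyOfFinitePresentation α.left
  proper : IsProper B.hom
  integral : GeometricallyIntegral B.hom

attribute [local instance] CTri.grp

/-- The image exists. -/
theorem exists_chowImage (h : AbVar.IsPrimaryExt k K) (A : Over (Spec (CommRingCat.of K))) [GrpObj A]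
    [IsProper A.hom] [GeometricallyIntegral A.hom] :
    ∃ (A₀ : Over (Spec (CommRingCat.of k))) (_ : GrpObj A₀),
      IsProper A₀.hom ∧ GeometricallyIntegral A₀.hom ∧
        ∃ lam : A ⟶ Red.bc (AbVar.ext k K) A₀, AbVar.IsChowImage k K A A₀ lam := by
  classical
  let F := Over.pullback (AbVar.ext k K)
  haveI : CompactSpace A.left := QuasiCompact.compactSpace_of_compactSpace A.hom
  haveI : IsLocallyNoetherian A.left := LocallyOfFiniteType.isLocallyNoetherian A.hom
  let 𝒰 := A.left.affineCover.finiteSubcover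
  let U : 𝒰.I₀ → A.left.affineOpens := fun i => ⟨(𝒰.f i).opensRange, isAffineOpen_opensRange (𝒰.f i)⟩
  haveI : ∀ i, IsNoetherianRing Γ(A.left, (U i).1) := fun i => IsLocallyNoetherian.component_noetherian (U i)
  let Φ : CTri k A → ∀ i, (Ideal Γ(A.left, (U i).1))ᵒᵈ := fun t i =>
    OrderDual.toDual ((pullback.fst t.α η[Red.bc (AbVar.ext k K) t.B]).left.ker.ideal (U i))
  haveI : WellFoundedLT (∀ i, (Ideal Γ(A.left, (U i).1))ᵒᵈ) := inferInstance
  obtain ⟨t₀⟩ : Nonempty (CTri k A) := by
    haveI : IsProper (𝟙_ (Over (Spec (CommRingCat.of k)))).hom := inferInstanceAs (IsProper (𝟙 _))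
    haveI : Smooth (𝟙_ (Over (Spec (CommRingCat.of k)))).hom := inferInstanceAs (Smooth (𝟙 _))
    haveI : ConnectedSpace (𝟙_ (Over (Spec (CommRingCat.of k)))).left :=
      inferInstanceAs (ConnectedSpace (PrimeSpectrum k))
    haveI := geometricallyIntegral_of_smooth (𝟙_ (Over (Spec (CommRingCat.of k))))
    have hsub : ∀ {T : Over (Spec (CommRingCat.of K))} (a b : T ⟶ Red.bc (AbVar.ext k K) (𝟙_ _)), a = b :=
      fun {T} a b => by
        rw [← Category.comp_id a, ← Category.comp_id b, ← (Functor.Monoidal.εIso F).inv_hom_id, ← Category.assoc,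
          ← Category.assoc]
        congr 1
        exact toUnit_unique _ _
    haveI : IsMonHom (1 : A ⟶ Red.bc (AbVar.ext k K) (𝟙_ _)) := ⟨hsub _ _, hsub _ _⟩
    obtain ⟨D, gD, i, p, h1, h2, -, h3, h4, h5, h6, -⟩ :=
      exists_image_descend h (𝟙_ _) (1 : A ⟶ Red.bc (AbVar.ext k K) (𝟙_ _))
    exact ⟨⟨D, gD, p, h3, h4, h5, h6, h1, h2⟩⟩
  obtain ⟨_, ⟨t, rfl⟩, hmin⟩ := (wellFounded_lt (α := ∀ i, (Ideal Γ(A.left, (U i).1))ᵒᵈ)).has_min (Set.range Φ)
    ⟨_, ⟨t₀, rfl⟩⟩
  obtain ⟨A₀, g₀, α, hα, hs, hf, hp, hA, hI⟩ := t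
  refine ⟨A₀, g₀, hA, hI, α, hα, hs, fun B _ _ _ β _ => ?_⟩
  obtain ⟨_, _⟩ := geometricallyIntegral_tensor A₀ B
  let P := F.obj (A₀ ⊗ B)
  haveI : IsMonHom (F.map (fst A₀ B)) := Groth.L25.MonoClosed.isMonHom_pullbackMap _ _
  haveI : IsMonHom (F.map (snd A₀ B)) := Groth.L25.MonoClosed.isMonHom_pullbackMap _ _
  let ψ : A ⟶ P := CartesianMonoidalCategory.lift α β ≫ Functor.LaxMonoidal.μ F A₀ B
  have hψ1 : ψ ≫ F.map (fst A₀ B) = α := by rw [Category.assoc, Functor.Monoidal.μ_fst, lift_fst]
  have hψ2 : ψ ≫ F.map (snd A₀ B) = β := by rw [Category.assoc, Functor.Monoidal.μ_snd, lift_snd]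
  have hjoint : ∀ {T : Over (Spec (CommRingCat.of K))} (a b : T ⟶ P), a ≫ F.map (fst A₀ B) = b ≫ F.map (fst A₀ B) →
      a ≫ F.map (snd A₀ B) = b ≫ F.map (snd A₀ B) → a = b := by
    intro T a b e1 e2
    let μ' := Functor.Monoidal.μIso F A₀ B
    rw [← Category.comp_id a, ← Category.comp_id b, ← μ'.inv_hom_id, ← Category.assoc, ← Category.assoc]
    congr 1
    refine CartesianMonoidalCategory.hom_ext _ _ ?_ ?_
    · have hμ : μ'.inv ≫ fst (F.obj A₀) (F.obj B) = F.map (fst A₀ B) :=
        (Iso.inv_comp_eq μ').2 (Functor.Monoidal.μ_fst F A₀ B).symm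
      rw [Category.assoc, Category.assoc, hμ, e1]
    · have hμ : μ'.inv ≫ snd (F.obj A₀) (F.obj B) = F.map (snd A₀ B) :=
        (Iso.inv_comp_eq μ').2 (Functor.Monoidal.μ_snd F A₀ B).symm
      rw [Category.assoc, Category.assoc, hμ, e2]
  haveI : IsMonHom ψ :=
    { one_hom := hjoint _ _ (by rw [Category.assoc, hψ1, IsMonHom.one_hom, IsMonHom.one_hom (f := F.map (fst A₀ B))])
        (by rw [Category.assoc, hψ2, IsMonHom.one_hom, IsMonHom.one_hom (f := F.map (snd A₀ B))])
      mul_hom := hjoint _ _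
        (by rw [Category.assoc, hψ1, IsMonHom.mul_hom, Category.assoc, IsMonHom.mul_hom (f := F.map (fst A₀ B)),
          tensorHom_comp_tensorHom_assoc, hψ1])
        (by rw [Category.assoc, hψ2, IsMonHom.mul_hom, Category.assoc, IsMonHom.mul_hom (f := F.map (snd A₀ B)),
          tensorHom_comp_tensorHom_assoc, hψ2]) }
  obtain ⟨D, gD, iD, p, _, _, _, _, _, _, _, hpi⟩ := exists_image_descend h (A₀ ⊗ B) ψ
  let d : D ⟶ A₀ := iD ≫ fst A₀ B
  haveI : IsMonHom d := inferInstanceAs (IsMonHom (iD ≫ fst A₀ B))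
  haveI : IsMonHom (F.map d) := Groth.L25.MonoClosed.isMonHom_pullbackMap _ _
  have hpd : p ≫ F.map d = α := by rw [Functor.map_comp, reassoc_of% hpi, hψ1]
  let j := pullback.fst α η[Red.bc (AbVar.ext k K) A₀]
  let j' := pullback.fst p η[Red.bc (AbVar.ext k K) D]
  have hj : ∀ {T : Over (Spec (CommRingCat.of K))} (a : T ⟶ A), a ≫ α = 1 → ∃ z, z ≫ j = a := fun {T} a ha =>
    ⟨pullback.lift a (toUnit T) (by rw [ha, Hom.one_def]), pullback.lift_fst _ _ _⟩
  have hj'1 : j' ≫ p = 1 := by
    rw [pullback.condition, Hom.one_def]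
    congr 1
    exact toUnit_unique _ _
  obtain ⟨z, hz⟩ := hj j' (by rw [← hpd, ← Category.assoc, hj'1, MonObj.one_comp])
  have hle : j.left.ker ≤ j'.left.ker := by
    rw [← hz, Over.comp_left]
    exact Scheme.Hom.le_ker_comp _ _
  let tD : CTri k A := ⟨D, gD, p, inferInstance, inferInstance, inferInstance, inferInstance, inferInstance, inferInstance⟩
  have hF : ∀ i, j.left.ker.ideal (U i) = j'.left.ker.ideal (U i) := fun i => by
    have h1 : Φ tD ≤ Φ ⟨A₀, g₀, α, hα, hs, hf, hp, hA, hI⟩ := fun i => hle (U i)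
    exact congrArg OrderDual.ofDual (congrFun ((h1.eq_or_lt.resolve_right (hmin _ ⟨_, rfl⟩)).symm) i)
  have hker : j.left.ker = j'.left.ker := Scheme.IdealSheafData.ext_of_iSup_eq_top U 𝒰.iSup_opensRange hF
  haveI : IsClosedImmersion j'.left :=
    MorphismProperty.of_isPullback (P := @IsClosedImmersion)
      ((IsPullback.of_hasPullback p η[Red.bc (AbVar.ext k K) D]).map (Over.forget _)).flip
      (AbelianGrp.isClosedImmersion_one _)
  let w : pullback α η[Red.bc (AbVar.ext k K) A₀] ⟶ pullback p η[Red.bc (AbVar.ext k K) D] :=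
    Over.homMk (IsClosedImmersion.lift j'.left j.left hker.ge) (by
      rw [← Over.w j', IsClosedImmersion.lift_fac_assoc]
      exact Over.w j)
  have hw : w ≫ j' = j := Over.OverMorphism.ext (IsClosedImmersion.lift_fac _ _ _)
  obtain ⟨e, he⟩ := AffHull.exists_iso_of_covers p α fun {T} a b => by
    refine ⟨fun e => by rw [← hpd, reassoc_of% e], fun e => ?_⟩
    obtain ⟨c, hc⟩ := hj (a * b⁻¹) (by rw [MonObj.mul_comp, GrpObj.inv_comp, e, mul_inv_cancel])
    have h1 : (a * b⁻¹) ≫ p = 1 := by
      rw [← hc, ← hw, Category.assoc, Category.assoc, hj'1, MonObj.comp_one, MonObj.comp_one]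
    rw [MonObj.mul_comp, GrpObj.inv_comp, mul_inv_eq_one] at h1
    exact h1
  haveI : Epi p := GQuot.epi_of_cover p
  have hed : F.map d = e.hom := by rw [← cancel_epi p, hpd, he]
  haveI : IsIso d.left := by
    haveI : IsIso (F.map d) := hed ▸ inferInstance
    have hp : IsPullback (F.map d).left (pullback.fst D.hom (AbVar.ext k K))
        (pullback.fst A₀.hom (AbVar.ext k K)) d.left := by
      have hl : (F.map d).left ≫ pullback.fst A₀.hom (AbVar.ext k K) =
          pullback.fst D.hom (AbVar.ext k K) ≫ d.left := pullback.lift_fst _ _ _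
      refine IsPullback.of_bot ?_ hl.symm (IsPullback.of_hasPullback A₀.hom (AbVar.ext k K)) |>.flip
      rw [show d.left ≫ A₀.hom = D.hom from Over.w d,
        show (F.map d).left ≫ pullback.snd A₀.hom (AbVar.ext k K) = pullback.snd D.hom (AbVar.ext k K) from
          Over.w (F.map d)]
      exact IsPullback.of_hasPullback D.hom (AbVar.ext k K)
    haveI : Surjective (AbVar.ext k K) := ⟨fun x => ⟨IsLocalRing.closedPoint K, Subsingleton.elim (α := PrimeSpectrum k) _ _⟩⟩
    exact MorphismProperty.of_isPullback_of_descendsAlong (P := MorphismProperty.isomorphisms Scheme.{u})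
      (Q := @Surjective ⊓ @Flat ⊓ @QuasiCompact) hp
      ⟨⟨inferInstanceAs (Surjective (pullback.fst A₀.hom (AbVar.ext k K))),
        inferInstanceAs (Flat (pullback.fst A₀.hom (AbVar.ext k K)))⟩,
        inferInstanceAs (QuasiCompact (pullback.fst A₀.hom (AbVar.ext k K)))⟩
      (inferInstanceAs (IsIso ((Over.forget _).map (F.map d))))
  haveI : IsIso ((Over.forget _).map d) := ‹IsIso d.left›
  haveI : IsIso d := isIso_of_reflects_iso d (Over.forget _)
  haveI : IsMonHom (CategoryTheory.inv d) :=
    { one_hom := by rw [← cancel_mono d, Category.assoc, IsIso.inv_hom_id, Category.comp_id, IsMonHom.one_hom]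
      mul_hom := by
        rw [← cancel_mono d, Category.assoc, Category.assoc, IsIso.inv_hom_id, Category.comp_id, IsMonHom.mul_hom,
          tensorHom_comp_tensorHom_assoc, IsIso.inv_hom_id, id_tensorHom_id, Category.id_comp] }
  refine ⟨CategoryTheory.inv d ≫ iD ≫ snd A₀ B, inferInstance, ?_⟩
  rw [Functor.map_comp, Functor.map_comp, ← hpd, Category.assoc, ← Functor.map_comp_assoc,
    IsIso.hom_inv_id, CategoryTheory.Functor.map_id, Category.id_comp, reassoc_of% hpi, hψ2]

end Groth.L08.Albanese
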