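import Groth.Agent.L08.Albanese.Basic
import Groth.Agent.L08.Albanese.ChowImage
import Groth.Agent.L08.FlatHom
import Groth.Agent.L08.DeligneScheme
import Groth.Agent.L26.AV.Degree
import Groth.Agent.L23.FppfSmooth

/-!
# Étale isogenies over primary extensions descend
-/

set_option autoImplicit false
set_option backward.isDefEq.respectTransparency.types false
set_option linter.style.haveILetI false

universe u

open CategoryTheory CategoryTheory.Limits MonoidalCategory CartesianMonoidalCategory MonObj AlgebraicGeometry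
open Groth.L25

noncomputable section

namespace Groth.L08.Albanese

variable {k K : Type u} [Field k] [Field K]

/-- The quotient of an abelian variety is an abelian variety. -/
theorem abelian_of_cover {A B : Over (Spec (CommRingCat.of K))} [GrpObj A] [GrpObj B] [IsProper A.hom]
    [GeometricallyIntegral A.hom] [LocallyOfFiniteType B.hom] [QuasiCompact B.hom] (q : A ⟶ B) [IsMonHom q]
    [Surjective q.left] [Flat q.left] [LocallyOfFinitePresentation q.left] :
    IsProper B.hom ∧ GeometricallyIntegral B.hom := by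
  haveI := AbelianGrp.isSeparated B
  haveI : UniversallyClosed (q.left ≫ B.hom) := by rw [Over.w q]; infer_instance
  haveI : UniversallyClosed B.hom := UniversallyClosed.of_comp_surjective q.left B.hom
  haveI : IsProper B.hom := {}
  haveI := smooth_of_geometricallyIntegral A
  haveI hA : Smooth (q.left ≫ B.hom) := by rw [Over.w q]; infer_instance
  haveI : Smooth B.hom := Groth.L23.FppfSmooth.smooth_of_fppf_comp q.left B.hom hA
  haveI : ConnectedSpace A.left := GeometricallyConnected.connectedSpace_of_subsingleton A.hom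
  haveI : ConnectedSpace B.left := q.left.surjective.connectedSpace q.left.continuous
  exact ⟨inferInstance, geometricallyIntegral_of_smooth B⟩

/-- Dividing out the identity component of the kernel leaves a finite étale kernel. -/
theorem exists_component_quotient {A H : Over (Spec (CommRingCat.of K))} [GrpObj A] [GrpObj H] [IsProper A.hom]
    [GeometricallyIntegral A.hom] [IsProper H.hom] (lam : A ⟶ H) [IsMonHom lam] [Surjective lam.left]
    [Flat lam.left] {N : Over (Spec (CommRingCat.of K))} [GrpObj N] (i : N ⟶ A) [IsMonHom i] [IsClosedImmersion i.left]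
    (sq : AlgGrp.IsKernel i lam) :
    ∃ (N₀ : Over (Spec (CommRingCat.of K))) (j : N₀ ⟶ N) (A' : Over (Spec (CommRingCat.of K))) (_ : GrpObj A')
      (q : A ⟶ A') (φ : A' ⟶ H) (E : Over (Spec (CommRingCat.of K))) (_ : GrpObj E) (κ : E ⟶ A'),
      IsOpenImmersion j.left ∧ ConnectedSpace N₀.left ∧ IsProper A'.hom ∧ GeometricallyIntegral A'.hom ∧
      IsMonHom q ∧ AlgGrp.IsKernel (j ≫ i) q ∧ IsMonHom φ ∧ q ≫ φ = lam ∧ IsFinite φ.left ∧
      IsMonHom κ ∧ IsClosedImmersion κ.left ∧ AlgGrp.IsKernel κ φ ∧ IsFinite E.hom ∧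
      IsOpenImmersion (η[E] : 𝟙_ (Over (Spec (CommRingCat.of K))) ⟶ E).left := by
  haveI : IsCommMonObj A := isCommMonObj_of_isProper_of_geometricallyIntegral A
  haveI : Mono i := Over.mono_of_mono_left i
  haveI : LocallyOfFiniteType N.hom := by rw [← Over.w i]; infer_instance
  haveI : QuasiCompact N.hom := by rw [← Over.w i]; infer_instance
  obtain ⟨N₀, gN₀, j, _, _, hjo, hr⟩ := IdComp.exists_identityComponent N
  haveI := hjo
  have hN₀ : ConnectedSpace N₀.left := by
    refine connectedSpace_iff_univ.2 ⟨⟨Component.one N₀, trivial⟩, ?_⟩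
    have h := (isConnected_connectedComponent (x := Component.one N)).isPreconnected
    rw [← hr, ← Set.image_univ] at h
    exact (j.left.isOpenEmbedding.toIsEmbedding.toIsInducing.isPreconnected_image).1 h
  haveI : IsMonHom (j ≫ i) := inferInstance
  haveI : IsClosedImmersion (j ≫ i).left := inferInstanceAs (IsClosedImmersion (j.left ≫ i.left))
  haveI : Mono j := Over.mono_of_mono_left j
  obtain ⟨X, gX, q, _, _, _, _, _, _, -, hker⟩ := AbelianGrp.exists_quotient (j ≫ i)
  obtain ⟨_, _⟩ := abelian_of_cover q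
  obtain ⟨π, _, hπ, -⟩ := Groth.Agent.S3280.result K A N₀ X H q (j ≫ i) hker lam (by
    rw [Category.assoc, sq.w, ← Category.assoc]
    congr 1
    exact toUnit_unique _ _)
  obtain ⟨E, gE, κ, _, _, -, sqK⟩ := AbelianGrp.exists_kernel π
  haveI : Mono κ := Over.mono_of_mono_left κ
  haveI : LocallyOfFiniteType E.hom := by rw [← Over.w κ]; infer_instance
  haveI : QuasiCompact E.hom := by rw [← Over.w κ]; infer_instance
  have hκ : κ ≫ π = 1 := sqK.w.trans (Hom.one_def).symm
  obtain ⟨h, hh, -⟩ := sqK.exists_lift (i ≫ q) (toUnit N) (by rw [Category.assoc, hπ, sq.w])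
  have sqN : IsPullback h i κ q := by
    refine IsPullback.mk' hh (fun T a b _ e2 => ?_) (fun T a b e => ?_)
    · exact (cancel_mono i).1 e2
    · obtain ⟨c, hc, -⟩ := sq.exists_lift b (toUnit T) (by
        rw [← hπ, ← Category.assoc, ← e, Category.assoc, hκ, MonObj.comp_one, Hom.one_def])
      exact ⟨c, by rw [← cancel_mono κ, Category.assoc, hh, reassoc_of% hc, e], hc⟩
  have hsN := sqN.map (Over.forget _)
  haveI : Surjective h.left := MorphismProperty.of_isPullback (P := @Surjective) hsN.flip ‹Surjective q.left›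
  haveI : Flat h.left := MorphismProperty.of_isPullback (P := @Flat) hsN.flip ‹Flat q.left›
  haveI : QuasiCompact h.left := AbelianGrp.quasiCompact_left h
  have sqj : IsPullback j (toUnit N₀) h η[E] := by
    refine IsPullback.mk' ?_ (fun T a b e1 _ => (cancel_mono j).1 e1) (fun T a b e => ?_)
    · rw [← cancel_mono κ, Category.assoc, hh, Category.assoc, IsMonHom.one_hom, ← Category.assoc, hker.w]
    · obtain ⟨z, hz, -⟩ := hker.exists_lift (a ≫ i) b (by
        rw [Category.assoc, ← hh, ← Category.assoc, e, Category.assoc, IsMonHom.one_hom])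
      refine ⟨z, ?_, toUnit_unique _ _⟩
      rw [← cancel_mono i, Category.assoc, hz]
  have hone : IsOpenImmersion (η[E] : 𝟙_ (Over (Spec (CommRingCat.of K))) ⟶ E).left :=
    MorphismProperty.of_isPullback_of_descendsAlong (P := @IsOpenImmersion)
      (Q := @Surjective ⊓ @Flat ⊓ @QuasiCompact) (sqj.map (Over.forget _))
      ⟨⟨‹Surjective h.left›, ‹Flat h.left›⟩, ‹QuasiCompact h.left›⟩ hjo
  haveI : IsFinite E.hom := isFinite_of_isOpen_one E (by
    haveI := hone
    have h1 : Set.range (η[E] : 𝟙_ (Over (Spec (CommRingCat.of K))) ⟶ E).left = {Component.one E} := by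
      refine Set.eq_singleton_iff_unique_mem.2 ⟨⟨IsLocalRing.closedPoint K, rfl⟩, ?_⟩
      rintro _ ⟨x, rfl⟩
      exact congrArg η[E].left (Subsingleton.elim (α := PrimeSpectrum K) _ _)
    rw [← h1]
    exact (η[E] : 𝟙_ (Over (Spec (CommRingCat.of K))) ⟶ E).left.isOpenEmbedding.isOpen_range)
  let t : E ⊗ A ⟶ X := (fst E A ≫ κ) * (snd E A ≫ q)
  have sqt : IsPullback t (snd E A) π lam := by
    refine IsPullback.mk' ?_ (fun T a b e1 e2 => ?_) (fun T a g e => ?_)
    · simp only [t, MonObj.mul_comp, Category.assoc, hκ, hπ, MonObj.comp_one, _root_.one_mul]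
    · refine CartesianMonoidalCategory.hom_ext _ _ ?_ e2
      simp only [t, MonObj.comp_mul, reassoc_of% e2, mul_left_inj] at e1
      rw [← Category.assoc, ← Category.assoc, cancel_mono] at e1
      exact e1
    · obtain ⟨f, hf, -⟩ := sqK.exists_lift (a * (g ≫ q)⁻¹) (toUnit T) (by
        rw [MonObj.mul_comp, GrpObj.inv_comp, Category.assoc, hπ, e, mul_inv_cancel, Hom.one_def])
      refine ⟨CartesianMonoidalCategory.lift f g, ?_, lift_snd _ _⟩
      simp only [t, MonObj.comp_mul, lift_fst_assoc, lift_snd_assoc, hf, inv_mul_cancel_right]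
  haveI : IsFinite (snd E A).left := inferInstanceAs (IsFinite (pullback.snd E.hom A.hom))
  haveI : QuasiCompact lam.left := AbelianGrp.quasiCompact_left lam
  haveI : IsFinite π.left :=
    MorphismProperty.of_isPullback_of_descendsAlong (P := @IsFinite) (Q := @Surjective ⊓ @Flat ⊓ @QuasiCompact)
      (sqt.map (Over.forget _)).flip ⟨⟨‹Surjective lam.left›, ‹Flat lam.left›⟩, ‹QuasiCompact lam.left›⟩
      ‹IsFinite (snd E A).left›
  exact ⟨N₀, j, X, gX, q, π, E, gE, κ, hjo, hN₀, inferInstance, inferInstance, inferInstance, hker, inferInstance,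
    hπ, inferInstance, inferInstance, inferInstance, sqK, inferInstance, hone⟩

variable [Algebra k K]

/-- Base change of a morphism is its pullback. -/
theorem isPullback_bc_map {D A : Over (Spec (CommRingCat.of k))} (d : D ⟶ A) :
    IsPullback ((Over.pullback (AbVar.ext k K)).map d).left (pullback.fst D.hom (AbVar.ext k K))
      (pullback.fst A.hom (AbVar.ext k K)) d.left := by
  let F := Over.pullback (AbVar.ext k K)
  have hl : (F.map d).left ≫ pullback.fst A.hom (AbVar.ext k K) = pullback.fst D.hom (AbVar.ext k K) ≫ d.left :=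
    pullback.lift_fst _ _ _
  refine IsPullback.of_bot ?_ hl.symm (IsPullback.of_hasPullback A.hom (AbVar.ext k K)) |>.flip
  rw [show d.left ≫ A.hom = D.hom from Over.w d,
    show (F.map d).left ≫ pullback.snd A.hom (AbVar.ext k K) = pullback.snd D.hom (AbVar.ext k K) from
      Over.w (F.map d)]
  exact IsPullback.of_hasPullback D.hom (AbVar.ext k K)

/-- A kernel over the base field stays a kernel. -/
theorem exists_lift_bc {D A B : Over (Spec (CommRingCat.of k))} [GrpObj B] (i : D ⟶ A) (q : A ⟶ B)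
    (sq : AlgGrp.IsKernel i q) {T : Over (Spec (CommRingCat.of K))} (a : T ⟶ Red.bc (AbVar.ext k K) A)
    (ha : a ≫ (Over.pullback (AbVar.ext k K)).map q = 1) :
    ∃ b, b ≫ (Over.pullback (AbVar.ext k K)).map i = a := by
  let F := Over.pullback (AbVar.ext k K)
  obtain ⟨b, hb, -⟩ := (sq.map F).exists_lift a (toUnit T ≫ Functor.LaxMonoidal.ε F) (by
    rw [ha, Category.assoc, Hom.one_def]
    rfl)
  exact ⟨b, hb⟩

/-- An isogeny onto a constant abelian variety with étale kernel has constant source. -/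
theorem exists_descend_etale (h : AbVar.IsPrimaryExt k K) (A₀ : Over (Spec (CommRingCat.of k))) [GrpObj A₀]
    [IsProper A₀.hom] [GeometricallyIntegral A₀.hom] {A' : Over (Spec (CommRingCat.of K))} [GrpObj A']
    [IsProper A'.hom] [GeometricallyIntegral A'.hom] (φ : A' ⟶ Red.bc (AbVar.ext k K) A₀) [IsMonHom φ]
    [IsFinite φ.left] [Surjective φ.left]
    {E : Over (Spec (CommRingCat.of K))} [GrpObj E] (κ : E ⟶ A') [IsMonHom κ] [IsClosedImmersion κ.left]
    (sqK : AlgGrp.IsKernel κ φ) [IsFinite E.hom]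
    [IsOpenImmersion (η[E] : 𝟙_ (Over (Spec (CommRingCat.of K))) ⟶ E).left] :
    ∃ (B : Over (Spec (CommRingCat.of k))) (_ : GrpObj B), IsProper B.hom ∧ GeometricallyIntegral B.hom ∧
      ∃ e : Red.bc (AbVar.ext k K) B ≅ A', IsMonHom e.hom := by
  let F := Over.pullback (AbVar.ext k K)
  let A₀K := Red.bc (AbVar.ext k K) A₀
  haveI : IsProper A₀K.hom := MorphismProperty.pullback_snd (P := @IsProper) _ _ ‹_›
  haveI : GeometricallyIntegral A₀K.hom := MorphismProperty.pullback_snd (P := @GeometricallyIntegral) _ _ ‹_›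
  haveI : IsCommMonObj A' := isCommMonObj_of_isProper_of_geometricallyIntegral A'
  haveI : IsCommMonObj A₀ := isCommMonObj_of_isProper_of_geometricallyIntegral A₀
  haveI : IsCommMonObj A₀K := isCommMonObj_of_isProper_of_geometricallyIntegral A₀K
  haveI : Mono κ := Over.mono_of_mono_left κ
  haveI : IsCommMonObj E := ⟨by
    rw [← cancel_mono κ, Category.assoc, IsMonHom.mul_hom, ← Category.assoc,
      ← BraidedCategory.braiding_naturality, Category.assoc, IsCommMonObj.mul_comm]⟩
  -- the exponent of the kernel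
  haveI : Surjective E.hom := ⟨fun x => ⟨Component.one E, Subsingleton.elim (α := PrimeSpectrum K) _ _⟩⟩
  let n := E.hom.finrank (IsLocalRing.closedPoint K)
  have hn : 1 ≤ n := (Scheme.Hom.one_le_finrank_iff_surjective E.hom).2 ‹Surjective E.hom› _
  have hE : (𝟙 E : E ⟶ E) ^ n = 1 := Deligne.pow_eq_one E n fun s =>
    congrArg E.hom.finrank (Subsingleton.elim (α := PrimeSpectrum K) _ _)
  haveI : IsMonHom (𝟙 A' ^ n) := Groth.Agent.AV.Isogeny.isMonHom_pow n
  haveI : AlgebraicGeometry.IsIntegral A₀K.left := GeometricallyIntegral.isIntegral_of_subsingleton A₀K.hom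
  haveI : Flat φ.left := FlatHom.flat_of_surjective A' A₀K φ
  have hκn : κ ≫ (𝟙 A' ^ n) = toUnit E ≫ η[A'] := by
    have h1 : κ = 𝟙 E ≫ κ := (Category.id_comp κ).symm
    rw [MonObj.comp_pow, Category.comp_id, h1, ← MonObj.pow_comp, hE, MonObj.one_comp, Hom.one_def]
  obtain ⟨ν, _, hφν, -⟩ := Groth.Agent.S3280.result K A' E A₀K A' φ κ sqK (𝟙 A' ^ n) hκn
  haveI : AlgebraicGeometry.IsIntegral A'.left := GeometricallyIntegral.isIntegral_of_subsingleton A'.hom
  haveI : IsLocallyNoetherian A₀K.left := LocallyOfFiniteType.isLocallyNoetherian A₀K.hom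
  haveI : IsLocallyNoetherian A'.left := LocallyOfFiniteType.isLocallyNoetherian A'.hom
  haveI : LocallyOfFinitePresentation φ.left := LocallyOfFinitePresentation.iff_locallyOfFiniteType.2 inferInstance
  haveI : Epi φ := GQuot.epi_of_cover φ
  have hνφ : ν ≫ φ = 𝟙 A₀K ^ n := by
    rw [← cancel_epi φ, reassoc_of% hφν, MonObj.pow_comp, Category.id_comp, MonObj.comp_pow, Category.comp_id]
  haveI : Surjective ν.left := by
    haveI : Surjective (φ.left ≫ ν.left) := by
      rw [← Over.comp_left, hφν]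
      exact (Groth.Agent.AV.Degree.isogeny_pow (A := A') hn).2.2.1
    exact Surjective.of_comp φ.left ν.left
  haveI : Flat ν.left := FlatHom.flat_of_surjective A₀K A' ν
  haveI : LocallyOfFinitePresentation ν.left := by
    haveI : LocallyOfFiniteType (ν.left ≫ A'.hom) := by rw [Over.w ν]; infer_instance
    haveI : LocallyOfFiniteType ν.left := locallyOfFiniteType_of_comp ν.left A'.hom
    exact LocallyOfFinitePresentation.iff_locallyOfFiniteType.2 inferInstance
  -- the torsion of `A₀` and the clopen part killed by `ν`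
  haveI : IsMonHom (𝟙 A₀ ^ n) := Groth.Agent.AV.Isogeny.isMonHom_pow n
  obtain ⟨M, gM, m, _, _, -, sqM⟩ := AbelianGrp.exists_kernel (𝟙 A₀ ^ n)
  haveI : LocallyOfFiniteType M.hom := by rw [← Over.w m]; infer_instance
  have hpow : F.map (𝟙 A₀ ^ n) = 𝟙 A₀K ^ n := by
    show Functor.homMonoidHom F (𝟙 A₀ ^ n) = _
    rw [map_pow]
    exact congrArg (· ^ n) (CategoryTheory.Functor.map_id F A₀)
  have hmn : F.map m ≫ (𝟙 A₀K ^ n) = 1 := by
    rw [← hpow, ← Functor.map_comp, show m ≫ (𝟙 A₀ ^ n) = 1 from sqM.w.trans (Hom.one_def).symm, Functor.map_one]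
  obtain ⟨e, he, -⟩ := sqK.exists_lift (F.map m ≫ ν) (toUnit _) (by rw [Category.assoc, hνφ, hmn, Hom.one_def])
  let ηE : 𝟙_ (Over (Spec (CommRingCat.of K))) ⟶ E := η[E]
  haveI : IsClosedImmersion ηE.left := AbelianGrp.isClosedImmersion_one E
  let V : Set (F.obj M).left := e.left ⁻¹' Set.range ηE.left
  have hV : IsClopen V :=
    ⟨ηE.left.isClosedEmbedding.isClosed_range.preimage e.left.continuous,
      ηE.left.isOpenEmbedding.isOpen_range.preimage e.left.continuous⟩
  haveI := geometricallyConnected_of_primary h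
  let p : (F.obj M).left ⟶ M.left := pullback.fst M.hom (AbVar.ext k K)
  haveI : GeometricallyConnected p := inferInstanceAs (GeometricallyConnected (pullback.fst M.hom (AbVar.ext k K)))
  have hopen : IsOpenMap p := by
    haveI : UniversallyOpen (AbVar.ext k K) := inferInstance
    exact (pullback.fst M.hom (AbVar.ext k K)).isOpenMap
  let W : Set M.left := p '' V
  have hpre : p ⁻¹' W = V := by
    refine subset_antisymm (fun y hy => ?_) (Set.subset_preimage_image _ _)
    obtain ⟨v, hv, hvy⟩ := hy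
    exact (p.isConnected_preimage_singleton (p y)).isPreconnected.subset_isClopen hV ⟨v, hvy, hv⟩ rfl
  have hWo : IsOpen W := hopen V hV.2
  have hWc : IsClosed W := by
    rw [← isOpen_compl_iff, show Wᶜ = p '' Vᶜ from by
      rw [← hpre, ← Set.preimage_compl, Set.image_preimage_eq _ p.surjective]]
    exact hopen _ hV.1.isOpen_compl
  let W' : M.left.Opens := ⟨W, hWo⟩
  haveI : IsClosedImmersion W'.ι := .of_isPreimmersion _ (by rw [W'.range_ι]; exact hWc)
  let U : Over (Spec (CommRingCat.of k)) := Over.mk (W'.ι ≫ M.hom)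
  let u : U ⟶ M := Over.homMk W'.ι rfl
  let j₀ : U ⟶ A₀ := u ≫ m
  haveI : IsClosedImmersion j₀.left := inferInstanceAs (IsClosedImmersion (W'.ι ≫ m.left))
  haveI : Mono j₀ := Over.mono_of_mono_left j₀
  have hin : F.map j₀ ≫ ν = 1 := by
    have hsub : Set.range (F.map u ≫ e).left ⊆ Set.range ηE.left := by
      rintro _ ⟨x, rfl⟩
      have h0 : (F.map u).left ≫ p = pullback.fst U.hom (AbVar.ext k K) ≫ W'.ι := pullback.lift_fst _ _ _
      have h1 : p ((F.map u).left x) = W'.ι (pullback.fst U.hom (AbVar.ext k K) x) := congr(($h0) x)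
      have h2 : W'.ι (pullback.fst U.hom (AbVar.ext k K) x) ∈ W := (pullback.fst U.hom (AbVar.ext k K) x).2
      rw [← h1, ← Set.mem_preimage, hpre] at h2
      exact h2
    let z : F.obj U ⟶ 𝟙_ (Over (Spec (CommRingCat.of K))) :=
      Over.homMk (IsOpenImmersion.lift ηE.left (F.map u ≫ e).left hsub) (by
        rw [← Over.w ηE, IsOpenImmersion.lift_fac_assoc]
        exact Over.w (F.map u ≫ e))
    have hz : z ≫ ηE = F.map u ≫ e := Over.OverMorphism.ext (IsOpenImmersion.lift_fac _ _ _)
    rw [Functor.map_comp, Category.assoc, ← he, ← Category.assoc, ← hz, toUnit_unique z (toUnit _),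
      show toUnit (F.obj U) ≫ ηE = 1 from (Hom.one_def).symm, MonObj.one_comp]
  have hout : ∀ {T : Over (Spec (CommRingCat.of K))} (a : T ⟶ A₀K), a ≫ ν = 1 → ∃ z, z ≫ F.map j₀ = a := by
    intro T a ha
    obtain ⟨b, hb⟩ := exists_lift_bc m (𝟙 A₀ ^ n) sqM a (by
      rw [hpow, ← hνφ, reassoc_of% ha, MonObj.one_comp])
    have hbe : b ≫ e = 1 := by
      rw [← cancel_mono κ, Category.assoc, he, reassoc_of% hb, ha, MonObj.one_comp]
    have hsub : Set.range (b.left ≫ p) ⊆ Set.range W'.ι := by
      rw [W'.range_ι]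
      rintro _ ⟨x, rfl⟩
      refine ⟨b.left x, ⟨(toUnit T).left x, ?_⟩, rfl⟩
      exact (congr(($hbe).left x)).symm
    let s := IsOpenImmersion.lift W'.ι (b.left ≫ p) hsub
    have hs : s ≫ W'.ι = b.left ≫ p := IsOpenImmersion.lift_fac _ _ _
    have hp : p ≫ M.hom = (F.obj M).hom ≫ AbVar.ext k K := pullback.condition
    let z : T ⟶ F.obj U := Over.homMk (pullback.lift s T.hom (by
      show s ≫ W'.ι ≫ M.hom = _
      rw [reassoc_of% hs, hp, ← Category.assoc, Over.w b])) (pullback.lift_snd _ _ _)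
    refine ⟨z, ?_⟩
    rw [Functor.map_comp, ← Category.assoc, show z ≫ F.map u = b from ?_, hb]
    refine Over.OverMorphism.ext ?_
    apply pullback.hom_ext
    · show (z.left ≫ (F.map u).left) ≫ p = b.left ≫ p
      rw [Category.assoc, show (F.map u).left ≫ p = pullback.fst U.hom (AbVar.ext k K) ≫ W'.ι from pullback.lift_fst _ _ _,
        ← Category.assoc, show z.left ≫ pullback.fst U.hom (AbVar.ext k K) = s from pullback.lift_fst _ _ _, hs]
    · show (z.left ≫ (F.map u).left) ≫ (F.obj M).hom = b.left ≫ (F.obj M).hom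
      rw [Category.assoc, Over.w (F.map u), Over.w b]
      exact pullback.lift_snd _ _ _
  have hfac : ∀ {T : Over (Spec (CommRingCat.of k))} (f : T ⟶ A₀), F.map f ≫ ν = 1 → ∃ z : T ⟶ U, z ≫ j₀ = f :=
    fun f hf => exists_factor_of_bc j₀ f (hout _ hf)
  have hj1 : ∀ {T : Over (Spec (CommRingCat.of k))} (f : T ⟶ U), F.map (f ≫ j₀) ≫ ν = 1 := fun f => by
    rw [Functor.map_comp, Category.assoc, hin, MonObj.comp_one]
  obtain ⟨gU, _⟩ := Groth.L08.exists_grpObj_of_mono j₀
    (hfac η[A₀] (by rw [one_eq_one, Functor.map_one, MonObj.one_comp]))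
    (hfac _ (by rw [Functor.map_mul, MonObj.mul_comp, hj1, hj1, _root_.one_mul]))
    (hfac _ (by
      rw [show F.map j₀⁻¹ = (F.map j₀)⁻¹ from map_inv (Functor.homMonoidHom F) j₀, GrpObj.inv_comp, hin, inv_one]))
  obtain ⟨B, gB, q₀, _, _, _, _, _, _, -, sqQ⟩ := AbelianGrp.exists_quotient j₀
  obtain ⟨_, _⟩ := abelian_of_cover q₀
  haveI : Surjective (F.map q₀).left :=
    MorphismProperty.of_isPullback (P := @Surjective) (isPullback_bc_map q₀).flip ‹Surjective q₀.left›
  haveI : Flat (F.map q₀).left :=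
    MorphismProperty.of_isPullback (P := @Flat) (isPullback_bc_map q₀).flip ‹Flat q₀.left›
  haveI : LocallyOfFinitePresentation (F.map q₀).left :=
    MorphismProperty.of_isPullback (P := @LocallyOfFinitePresentation) (isPullback_bc_map q₀).flip
      ‹LocallyOfFinitePresentation q₀.left›
  haveI hq : IsMonHom (F.map q₀) := Groth.L25.MonoClosed.isMonHom_pullbackMap _ _
  have hjq : F.map j₀ ≫ F.map q₀ = 1 := by
    rw [← Functor.map_comp, show j₀ ≫ q₀ = 1 from sqQ.w.trans (Hom.one_def).symm, Functor.map_one]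
  obtain ⟨ε', hε⟩ := AffHull.exists_iso_of_covers (F.map q₀) ν fun {T} a b => by
    have key : (a * b⁻¹) ≫ F.map q₀ = 1 ↔ (a * b⁻¹) ≫ ν = 1 := by
      constructor
      · intro e1
        obtain ⟨c, hc⟩ := exists_lift_bc j₀ q₀ sqQ _ e1
        rw [← hc, Category.assoc, hin, MonObj.comp_one]
      · intro e1
        obtain ⟨c, hc⟩ := hout _ e1
        rw [← hc, Category.assoc, hjq, MonObj.comp_one]
    rwa [MonObj.mul_comp, GrpObj.inv_comp, mul_inv_eq_one, MonObj.mul_comp, GrpObj.inv_comp, mul_inv_eq_one] at key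
  refine ⟨B, gB, inferInstance, inferInstance, ε', ⟨?_, ?_⟩⟩
  · rw [← IsMonHom.one_hom (f := F.map q₀), Category.assoc, hε, IsMonHom.one_hom]
  · obtain ⟨_, _, _⟩ := GQuot.cover_tensor₂ (F.map q₀)
    haveI : Epi (F.map q₀ ⊗ₘ F.map q₀) := GQuot.epi_of_cover _
    rw [← cancel_epi (F.map q₀ ⊗ₘ F.map q₀), ← IsMonHom.mul_hom_assoc, hε, IsMonHom.mul_hom,
      tensorHom_comp_tensorHom_assoc, hε]

/-- The kernel of the universal morphism to a constant abelian variety is connected. -/
theorem connectedSpace_kernel (h : AbVar.IsPrimaryExt k K) {A : Over (Spec (CommRingCat.of K))} [GrpObj A]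
    [IsProper A.hom] [GeometricallyIntegral A.hom]
    {A₀ : Over (Spec (CommRingCat.of k))} [GrpObj A₀] [IsProper A₀.hom] [GeometricallyIntegral A₀.hom]
    (lam : A ⟶ Red.bc (AbVar.ext k K) A₀) (hl : AbVar.IsChowImage k K A A₀ lam)
    {N : Over (Spec (CommRingCat.of K))} [GrpObj N] (i : N ⟶ A) [IsMonHom i] [IsClosedImmersion i.left]
    (sq : AlgGrp.IsKernel i lam) : ConnectedSpace N.left := by
  haveI := hl.isMonHom
  haveI := hl.surjective
  haveI : IsProper (Red.bc (AbVar.ext k K) A₀).hom := MorphismProperty.pullback_snd (P := @IsProper) _ _ ‹_›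
  haveI : GeometricallyIntegral (Red.bc (AbVar.ext k K) A₀).hom :=
    MorphismProperty.pullback_snd (P := @GeometricallyIntegral) _ _ ‹_›
  haveI : AlgebraicGeometry.IsIntegral (Red.bc (AbVar.ext k K) A₀).left :=
    GeometricallyIntegral.isIntegral_of_subsingleton (Red.bc (AbVar.ext k K) A₀).hom
  haveI : Flat lam.left := FlatHom.flat_of_surjective A _ lam
  obtain ⟨N₀, j, A', gA', q, φ, E, gE, κ, _, hN₀, _, _, _, hker, _, hqφ, _, _, _, sqK, _, _⟩ :=
    exists_component_quotient lam i sq
  haveI : Surjective φ.left := by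
    haveI : Surjective (q.left ≫ φ.left) := by rw [← Over.comp_left, hqφ]; exact hl.surjective
    exact Surjective.of_comp q.left φ.left
  obtain ⟨B, gB, _, _, e, _⟩ := exists_descend_etale h A₀ φ κ sqK
  haveI : IsMonHom e.inv :=
    { one_hom := by rw [← cancel_mono e.hom, Category.assoc, Iso.inv_hom_id, Category.comp_id, IsMonHom.one_hom]
      mul_hom := by
        rw [← cancel_mono e.hom, Category.assoc, Category.assoc, Iso.inv_hom_id, Category.comp_id, IsMonHom.mul_hom,
          tensorHom_comp_tensorHom_assoc, Iso.inv_hom_id, id_tensorHom_id, Category.id_comp] }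
  obtain ⟨α₀, hα₀, hfac⟩ := hl.fac B (q ≫ e.inv)
  haveI : IsMonHom ((Over.pullback (AbVar.ext k K)).map α₀) := Groth.L25.MonoClosed.isMonHom_pullbackMap _ _
  have hiq : i ≫ q = toUnit N ≫ η[A'] := by
    have h1 : (i ≫ q) ≫ e.inv = 1 := by
      rw [Category.assoc, ← hfac, ← Category.assoc, show i ≫ lam = 1 from sq.w.trans (Hom.one_def).symm,
        MonObj.one_comp]
    rw [← Hom.one_def, ← Category.comp_id (i ≫ q), ← e.inv_hom_id, ← Category.assoc, h1, MonObj.one_comp]
  obtain ⟨z, hz, -⟩ := hker.exists_lift i (toUnit N) hiq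
  haveI : Mono i := Over.mono_of_mono_left i
  have hz' : z ≫ j = 𝟙 N := by rw [← cancel_mono i, Category.assoc, hz, Category.id_comp]
  haveI : Surjective j.left := ⟨fun y => ⟨z.left y, congr(($hz').left y)⟩⟩
  haveI := hN₀
  exact j.left.surjective.connectedSpace j.left.continuous

end Groth.L08.Albanese
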