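import Groth.Agent.L08.AffHull.AntiAffine
import Groth.Agent.L26.AV.Hom
import Groth.Agent.L26.AV.SmoothField
import Groth.Agent.L26.AV.FibConst
import Groth.Agent.L25.MonoClosed.Main
import Groth.Prelude.Def_W4bk6langav68Chow

/-!
# The largest abelian subvariety of a proper group
-/

set_option autoImplicit false
set_option backward.isDefEq.respectTransparency.types false
set_option linter.style.haveILetI false

universe u

open CategoryTheory CategoryTheory.Limits MonoidalCategory CartesianMonoidalCategory MonObj AlgebraicGeometry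

noncomputable section

namespace Groth.L08.Albanese

variable {K : Type u} [Field K]

/-- The functions on a proper geometrically integral scheme are constants. -/
theorem isIso_appTop_of_proper {X : Scheme.{u}} (f : X ⟶ Spec (CommRingCat.of K)) [IsProper f]
    [GeometricallyIntegral f] [Nonempty X] : IsIso f.appTop := by
  refine (ConcreteCategory.isIso_iff_bijective _).2 ⟨?_, Groth.Agent.AV.surjective_appTop_geometric f⟩
  haveI : Nonempty ((⊤ : X.Opens) : Scheme.{u}) := ⟨⟨Classical.arbitrary X, trivial⟩⟩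
  haveI : Nontrivial Γ(X, ⊤) := inferInstance
  intro a b h
  let e := (Scheme.ΓSpecIso (CommRingCat.of K)).commRingCatIsoToRingEquiv
  refine e.injective ((f.appTop.hom.comp e.symm.toRingHom).injective (a₁ := e a) (a₂ := e b) ?_)
  simp only [RingHom.comp_apply, RingEquiv.toRingHom_eq_coe, RingEquiv.coe_toRingHom, RingEquiv.symm_apply_apply]
  exact h

/-- The unit of a base change. -/
theorem η_bc {L : Type u} [Field L] (t : Spec (CommRingCat.of L) ⟶ Spec (CommRingCat.of K))
    (H : Over (Spec (CommRingCat.of K))) [GrpObj H] :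
    η[Red.bc t H] = Functor.LaxMonoidal.ε (Over.pullback t) ≫ (Over.pullback t).map η[H] := rfl

/-- A proper group contains an abelian variety through which all homomorphisms from abelian varieties factor,
after any field extension. -/
theorem exists_abPart (H : Over (Spec (CommRingCat.of K))) [GrpObj H] [IsProper H.hom] :
    ∃ (C : Over (Spec (CommRingCat.of K))) (_ : GrpObj C) (i : C ⟶ H), IsMonHom i ∧ IsClosedImmersion i.left ∧
      IsProper C.hom ∧ GeometricallyIntegral C.hom ∧
      ∀ (L : Type u) [Field L] (t : Spec (CommRingCat.of L) ⟶ Spec (CommRingCat.of K))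
        (X : Over (Spec (CommRingCat.of L))) [IsProper X.hom] [GeometricallyIntegral X.hom]
        (x₀ : 𝟙_ _ ⟶ X) (γ : X ⟶ Red.bc t H), x₀ ≫ γ = η[Red.bc t H] →
          ∃ γ' : X ⟶ Red.bc t C, γ' ≫ (Over.pullback t).map i = γ := by
  haveI := AffHull.compactSpace (G := H)
  haveI := AffHull.quasiSeparatedSpace (G := H)
  obtain ⟨C, gC, i, _, _, -, sq⟩ := AbelianGrp.exists_kernel (AffHull.rho H)
  haveI : IsProper C.hom := by rw [← Over.w i]; infer_instance
  have hO := AffHull.isIso_appTop_kernel i sq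
  haveI : Smooth C.hom := AffHull.smooth_of_antiAffine C hO
  haveI : ConnectedSpace C.left := AffHull.connectedSpace_of_antiAffine C hO
  haveI := Groth.Agent.AV.geometricallyReduced_of_smooth C.hom
  refine ⟨C, gC, i, inferInstance, inferInstance, inferInstance,
    Groth.Agent.AV.geometricallyIntegral_of_connected C, fun L _ t X _ _ x₀ γ hx => ?_⟩
  haveI : Nonempty X.left := ⟨x₀.left (IsLocalRing.closedPoint L)⟩
  haveI := isIso_appTop_of_proper X.hom
  haveI : IsAffineHom (AffHull.hull H).hom := inferInstance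
  haveI : IsAffineHom (Red.bc t (AffHull.hull H)).hom :=
    MorphismProperty.pullback_snd (P := @IsAffineHom) (AffHull.hull H).hom t ‹_›
  haveI : IsAffine (Red.bc t (AffHull.hull H)).left := isAffine_of_isAffineHom (Red.bc t (AffHull.hull H)).hom
  let f : X ⟶ Red.bc t (AffHull.hull H) := γ ≫ (Over.pullback t).map (AffHull.rho H)
  obtain ⟨d, hd⟩ := AffHull.desc_of_isIso_appTop X.hom f.left
  have hd' : d = x₀.left ≫ f.left := by
    rw [← hd, ← Category.assoc, Over.w x₀]
    exact (Category.id_comp d).symm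
  have hf : f = toUnit X ≫ x₀ ≫ f := by
    refine Over.OverMorphism.ext ?_
    show f.left = (toUnit X).left ≫ x₀.left ≫ f.left
    rw [← hd', show (toUnit X).left = X.hom from (Category.comp_id _).symm.trans (Over.w (toUnit X))]
    exact hd.symm
  have hsq := sq.map (Over.pullback t)
  refine ⟨hsq.lift γ (toUnit X ≫ Functor.LaxMonoidal.ε (Over.pullback t)) ?_, hsq.lift_fst _ _ _⟩
  show f = _
  rw [hf, Category.assoc]
  congr 1
  simp only [f, reassoc_of% hx, η_bc, Category.assoc, ← Functor.map_comp, IsMonHom.one_hom]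

/-- An abelian subvariety with the property `ContainsImages`. -/
structure Sub (k K : Type u) [Field k] [Field K] [Algebra k K] (A : Over (Spec (CommRingCat.of K))) [GrpObj A] where
  C : Over (Spec (CommRingCat.of K))
  grp : GrpObj C
  i : C ⟶ A
  hom : IsMonHom i
  mono : Mono i
  proper : IsProper C.hom
  integral : GeometricallyIntegral C.hom
  contains : AbVar.ContainsImages k K A C i

attribute [local instance] Sub.grp

variable (k : Type u) [Field k] [Algebra k K] (A : Over (Spec (CommRingCat.of K))) [GrpObj A]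

/-- The infimum of two subvarieties containing the images. -/
theorem exists_inf [IsProper A.hom] (s t : Sub k K A) :
    ∃ (u : Sub k K A), (∃ a : u.C ⟶ s.C, a ≫ s.i = u.i) ∧ ∃ b : u.C ⟶ t.C, b ≫ t.i = u.i := by
  obtain ⟨C₁, g₁, i₁, _, _, _, _, h₁⟩ := s
  obtain ⟨C₂, g₂, i₂, _, _, _, _, h₂⟩ := t
  let H := pullback i₁ i₂
  let p₁ : H ⟶ C₁ := pullback.fst i₁ i₂
  let p₂ : H ⟶ C₂ := pullback.snd i₁ i₂
  have hp : p₁ ≫ i₁ = p₂ ≫ i₂ := pullback.condition
  obtain ⟨gH, hp₁⟩ := Groth.L08.exists_grpObj_of_mono p₁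
    ⟨pullback.lift η[C₁] η[C₂] (by rw [IsMonHom.one_hom, IsMonHom.one_hom]), pullback.lift_fst _ _ _⟩
    ⟨pullback.lift ((fst H H ≫ p₁) * (snd H H ≫ p₁)) ((fst H H ≫ p₂) * (snd H H ≫ p₂))
      (by simp only [MonObj.mul_comp, Category.assoc, hp]), pullback.lift_fst _ _ _⟩
    ⟨pullback.lift p₁⁻¹ p₂⁻¹ (by simp only [GrpObj.inv_comp, hp]), pullback.lift_fst _ _ _⟩
  haveI : IsClosedImmersion i₂.left := by
    haveI := AbelianGrp.quasiCompact_left i₂
    exact MonoClosed.isClosedImmersion_of_field i₂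
  haveI : IsClosedImmersion p₁.left :=
    MorphismProperty.of_isPullback (P := @IsClosedImmersion)
      ((IsPullback.of_hasPullback i₁ i₂).map (Over.forget _)).flip ‹IsClosedImmersion i₂.left›
  haveI : IsProper H.hom := by rw [← Over.w p₁]; infer_instance
  obtain ⟨C, gC, i, _, _, _, _, hC⟩ := exists_abPart H
  haveI : Mono i := Over.mono_of_mono_left i
  refine ⟨⟨C, gC, i ≫ p₁ ≫ i₁, inferInstance, inferInstance, inferInstance, inferInstance, ?_⟩,
    ⟨i ≫ p₁, Category.assoc _ _ _⟩, ⟨i ≫ p₂, by rw [Category.assoc, ← hp]⟩⟩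
  intro E L _ _ _ _ _ _ _ _ hinj hgen B _ _ _ β _
  obtain ⟨γ₁, hγ₁⟩ := h₁ E L hinj hgen B β
  obtain ⟨γ₂, hγ₂⟩ := h₂ E L hinj hgen B β
  let F := Over.pullback (AbVar.ext K L)
  have hsq := (IsPullback.of_hasPullback i₁ i₂).map F
  obtain ⟨γ, hγ1, -⟩ := hsq.exists_lift γ₁ γ₂ (hγ₁.trans hγ₂.symm)
  haveI : IsProper (Red.bc (AbVar.ext E L) B).hom := MorphismProperty.pullback_snd (P := @IsProper) _ _ ‹_›
  haveI : GeometricallyIntegral (Red.bc (AbVar.ext E L) B).hom :=
    MorphismProperty.pullback_snd (P := @GeometricallyIntegral) _ _ ‹_›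
  haveI : Mono (F.map (p₁ ≫ i₁)) := Functor.map_mono F _
  have hγ : γ ≫ F.map (p₁ ≫ i₁) = β := by rw [Functor.map_comp, reassoc_of% hγ1, hγ₁]
  obtain ⟨γ', hγ'⟩ := hC L (AbVar.ext K L) (Red.bc (AbVar.ext E L) B) η γ (by
    rw [← cancel_mono (F.map (p₁ ≫ i₁)), Category.assoc, hγ, IsMonHom.one_hom, η_bc, η_bc, Category.assoc,
      ← Functor.map_comp, IsMonHom.one_hom (f := p₁ ≫ i₁)])
  exact ⟨γ', by rw [Functor.map_comp, reassoc_of% hγ', hγ]⟩

/-- There is a smallest abelian subvariety containing the images. -/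
theorem exists_least [IsProper A.hom] [GeometricallyIntegral A.hom] :
    ∃ s : Sub k K A, ∀ t : Sub k K A, ∃ j : s.C ⟶ t.C, j ≫ t.i = s.i := by
  classical
  haveI : CompactSpace A.left := QuasiCompact.compactSpace_of_compactSpace A.hom
  haveI : IsLocallyNoetherian A.left := LocallyOfFiniteType.isLocallyNoetherian A.hom
  let 𝒰 := A.left.affineCover.finiteSubcover
  let U : 𝒰.I₀ → A.left.affineOpens := fun i => ⟨(𝒰.f i).opensRange, isAffineOpen_opensRange (𝒰.f i)⟩
  haveI : ∀ i, IsNoetherianRing Γ(A.left, (U i).1) := fun i => IsLocallyNoetherian.component_noetherian (U i)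
  let F : Sub k K A → ∀ i, (Ideal Γ(A.left, (U i).1))ᵒᵈ := fun t i => OrderDual.toDual (t.i.left.ker.ideal (U i))
  haveI : WellFoundedLT (∀ i, (Ideal Γ(A.left, (U i).1))ᵒᵈ) := inferInstance
  let s₀ : Sub k K A := ⟨A, inferInstance, 𝟙 A, inferInstance, inferInstance, inferInstance, inferInstance,
    fun E L _ _ _ _ _ _ _ _ _ _ B _ _ _ β _ => ⟨β, by rw [CategoryTheory.Functor.map_id]; exact Category.comp_id β⟩⟩
  obtain ⟨_, ⟨s, rfl⟩, hmin⟩ := (wellFounded_lt (α := ∀ i, (Ideal Γ(A.left, (U i).1))ᵒᵈ)).has_min (Set.range F)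
    ⟨_, ⟨s₀, rfl⟩⟩
  refine ⟨s, fun t => ?_⟩
  obtain ⟨u, ⟨a, ha⟩, ⟨b, hb⟩⟩ := exists_inf k A s t
  have hle : s.i.left.ker ≤ u.i.left.ker := by
    rw [← ha, Over.comp_left]
    exact Scheme.Hom.le_ker_comp _ _
  have hF : ∀ i, s.i.left.ker.ideal (U i) = u.i.left.ker.ideal (U i) := fun i => by
    have h1 : F u ≤ F s := fun i => hle (U i)
    exact congrArg OrderDual.ofDual (congrFun ((h1.eq_or_lt.resolve_right (hmin _ ⟨_, rfl⟩)).symm) i)
  have hker : s.i.left.ker = u.i.left.ker := Scheme.IdealSheafData.ext_of_iSup_eq_top U 𝒰.iSup_opensRange hF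
  haveI := u.hom
  haveI := u.mono
  haveI := u.proper
  haveI : QuasiCompact u.i.left := AbelianGrp.quasiCompact_left u.i
  haveI : IsClosedImmersion u.i.left := MonoClosed.isClosedImmersion_of_field u.i
  let w : s.C ⟶ u.C := Over.homMk (IsClosedImmersion.lift u.i.left s.i.left hker.ge) (by
    rw [← Over.w u.i, IsClosedImmersion.lift_fac_assoc]
    exact Over.w s.i)
  refine ⟨w ≫ b, ?_⟩
  rw [Category.assoc, hb]
  exact Over.OverMorphism.ext (IsClosedImmersion.lift_fac _ _ _)

end Groth.L08.Albanese
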