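import Groth.Agent.L08.Albanese.Isogeny
import Groth.Agent.L08.Albanese.AbSub
import Groth.Agent.L25.GeomRed

/-!
# The trace is purely inseparable
-/

set_option autoImplicit false
set_option backward.isDefEq.respectTransparency.types false
set_option linter.style.haveILetI false

universe u

open CategoryTheory CategoryTheory.Limits MonoidalCategory CartesianMonoidalCategory MonObj AlgebraicGeometry
open Groth.L25

noncomputable section

namespace Groth.L08.Albanese

variable {k K : Type u} [Field k] [Field K] [Algebra k K]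

/-- A finite scheme over a field is discrete and finite. -/
theorem finite_discrete {S : Type u} [Field S] {X : Scheme.{u}} (f : X ⟶ Spec (CommRingCat.of S)) [IsFinite f] :
    Finite X ∧ DiscreteTopology X := by
  haveI : Finite X := by
    refine Finite.of_finite_univ ?_
    simpa using f.finite_preimage_singleton (IsLocalRing.closedPoint S) |>.subset
      (fun x _ => Subsingleton.elim (α := PrimeSpectrum S) (f x) _)
  haveI : IsLocallyArtinian X := IsLocallyArtinian.of_locallyQuasiFinite f
  exact ⟨inferInstance, IsLocallyArtinian.discreteTopology (X := X)⟩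

/-- Killed on a schematically dense piece is killed. -/
theorem map_comp_eq_one_of_image {M : Over (Spec (CommRingCat.of k))} [GrpObj M] {A : Over (Spec (CommRingCat.of K))}
    [GrpObj A] (τ : Red.bc (AbVar.ext k K) M ⟶ A) [IsMonHom τ]
    {P W : Over (Spec (CommRingCat.of k))} (d : P ⟶ W) [IsSchemeTheoreticallyDominant d.left] [QuasiCompact d.left]
    (w : W ⟶ M) (hw : (Over.pullback (AbVar.ext k K)).map (d ≫ w) ≫ τ = 1) :
    (Over.pullback (AbVar.ext k K)).map w ≫ τ = 1 := by
  let F := Over.pullback (AbVar.ext k K)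
  obtain ⟨N, gN, ν, _, _, -, sq⟩ := AbelianGrp.exists_kernel τ
  obtain ⟨z, hz, -⟩ := sq.exists_lift (F.map (d ≫ w)) (toUnit _) (by rw [hw, Hom.one_def])
  haveI : IsSchemeTheoreticallyDominant (F.map d).left :=
    IsSchemeTheoreticallyDominant.of_isPullback (isPullback_bc_map d).flip
  obtain ⟨w', hw'⟩ := exists_factor_dominant (F.map d).left (F.map w).left ν.left z.left
    ((congrArg CommaMorphism.left hz).trans (congrArg CommaMorphism.left (F.map_comp d w)))
  let e : F.obj W ⟶ N := Over.homMk w' (by rw [← Over.w ν, reassoc_of% hw', Over.w (F.map w)])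
  have he : e ≫ ν = F.map w := Over.OverMorphism.ext hw'
  rw [← he, Category.assoc, show ν ≫ τ = 1 from sq.w.trans (Hom.one_def).symm, MonObj.comp_one]

/-- A finite group over a geometrically integral extension: a point killed by a homomorphism gives a subgroup
killed by it. -/
theorem exists_subgroup_of_point [GeometricallyIntegral (AbVar.ext k K)] (M : Over (Spec (CommRingCat.of k)))
    [GrpObj M] [IsFinite M.hom] {A : Over (Spec (CommRingCat.of K))} [GrpObj A] (τ : Red.bc (AbVar.ext k K) M ⟶ A)
    [IsMonHom τ] {N : Over (Spec (CommRingCat.of K))} (ν : N ⟶ Red.bc (AbVar.ext k K) M)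
    [IsClosedImmersion ν.left] (sq : AlgGrp.IsKernel ν τ) (x : N.left)
    (hx : ν.left x ≠ Component.one (Red.bc (AbVar.ext k K) M)) :
    ∃ (U : Over (Spec (CommRingCat.of k))) (_ : GrpObj U) (j : U ⟶ M), IsMonHom j ∧ IsClosedImmersion j.left ∧
      (Over.pullback (AbVar.ext k K)).map j ≫ τ = 1 ∧ j ≠ 1 := by
  classical
  let F := Over.pullback (AbVar.ext k K)
  let MK := Red.bc (AbVar.ext k K) M
  haveI : IsFinite MK.hom := MorphismProperty.pullback_snd (P := @IsFinite) _ _ ‹_›
  obtain ⟨_, _⟩ := finite_discrete MK.hom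
  obtain ⟨_, _⟩ := finite_discrete M.hom
  let p : MK.left ⟶ M.left := pullback.fst M.hom (AbVar.ext k K)
  haveI : GeometricallyConnected (AbVar.ext k K) := inferInstance
  haveI : GeometricallyConnected p := inferInstanceAs (GeometricallyConnected (pullback.fst M.hom (AbVar.ext k K)))
  have hinj : Function.Injective p := fun a b hab =>
    (p.isConnected_preimage_singleton (p b)).isPreconnected.subsingleton hab rfl
  let o : MK.left := Component.one MK
  have ho : o ∈ Set.range ν.left := by
    obtain ⟨z, hz, -⟩ := sq.exists_lift η[MK] (𝟙 _) (by rw [IsMonHom.one_hom, Category.id_comp])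
    exact ⟨z.left (IsLocalRing.closedPoint K), congr(($hz).left (IsLocalRing.closedPoint K))⟩
  have hpo : p o = Component.one M := by
    have h1 : (η[MK] : 𝟙_ (Over (Spec (CommRingCat.of K))) ⟶ MK).left ≫ p = (Functor.LaxMonoidal.ε F).left ≫
        pullback.fst (𝟙_ (Over (Spec (CommRingCat.of k)))).hom (AbVar.ext k K) ≫ η[M].left := by
      rw [show (η[MK] : 𝟙_ (Over (Spec (CommRingCat.of K))) ⟶ MK) = Functor.LaxMonoidal.ε F ≫ F.map η[M] from rfl,
        Over.comp_left, Category.assoc, (isPullback_bc_map (K := K) η[M]).w]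
    exact congr(($h1) (IsLocalRing.closedPoint K)).trans
      (congrArg η[M].left (Subsingleton.elim (α := PrimeSpectrum k) _ _))
  let m : M.left := p (ν.left x)
  have hm : m ≠ Component.one M := fun h => hx (hinj (h.trans hpo.symm))
  let Zs : TopologicalSpace.Closeds M.left := ⟨{m, Component.one M}, isClosed_discrete _⟩
  let I := Scheme.IdealSheafData.vanishingIdeal Zs
  haveI : IsReduced I.subscheme := Groth.L18.isReduced_vanishingIdeal_subscheme Zs
  let Z : Over (Spec (CommRingCat.of k)) := Over.mk (I.subschemeι ≫ M.hom)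
  let z : Z ⟶ M := Over.homMk I.subschemeι
  haveI : IsClosedImmersion z.left := inferInstanceAs (IsClosedImmersion I.subschemeι)
  haveI : IsReduced Z.left := ‹IsReduced I.subscheme›
  haveI : LocallyOfFiniteType Z.hom := inferInstanceAs (LocallyOfFiniteType (I.subschemeι ≫ M.hom))
  haveI : IsLocallyNoetherian Z.left := LocallyOfFiniteType.isLocallyNoetherian Z.hom
  have hrZ : Set.range z.left = {m, Component.one M} := by
    show Set.range I.subschemeι = _
    rw [I.range_subschemeι, Scheme.IdealSheafData.coe_support_vanishingIdeal]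
    rfl
  -- the reduced subscheme is killed
  haveI : IsReduced (F.obj Z).left := by
    change IsReduced (pullback Z.hom (AbVar.ext k K))
    infer_instance
  have hzτ : F.map z ≫ τ = 1 := by
    haveI : Surjective (pullback.snd ν.left (F.map z).left) := ⟨fun y => by
      have hy : (F.map z).left y ∈ Set.range ν.left := by
        have h0 : (F.map z).left ≫ p = pullback.fst Z.hom (AbVar.ext k K) ≫ z.left := pullback.lift_fst _ _ _
        have h1 : p ((F.map z).left y) ∈ ({m, Component.one M} : Set M.left) := by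
          rw [← hrZ]
          exact ⟨_, (congr(($h0) y)).symm⟩
        rcases h1 with h1 | h1
        · exact ⟨x, (hinj h1).symm⟩
        · exact (hinj (h1.trans hpo.symm)) ▸ ho
      obtain ⟨z', hz'⟩ := hy
      obtain ⟨w, -, hw⟩ := Scheme.Pullback.exists_preimage_pullback z' y hz'
      exact ⟨w, hw⟩⟩
    obtain ⟨c₀, hc₀⟩ := Groth.L25.GeomRed.exists_factor (pullback.snd ν.left (F.map z).left) (𝟙 _)
    let c : F.obj Z ⟶ N := Over.homMk (c₀ ≫ pullback.fst ν.left (F.map z).left) (by
      rw [← Over.w ν, Category.assoc, pullback.condition_assoc, Over.w (F.map z), reassoc_of% hc₀])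
    have hc : c ≫ ν = F.map z := by
      refine Over.OverMorphism.ext ?_
      show (c₀ ≫ pullback.fst _ _) ≫ ν.left = _
      rw [Category.assoc, pullback.condition, reassoc_of% hc₀]
    rw [← hc, Category.assoc, show ν ≫ τ = 1 from sq.w.trans (Hom.one_def).symm, MonObj.comp_one]
  have hηZ : ∃ e : 𝟙_ (Over (Spec (CommRingCat.of k))) ⟶ Z, e ≫ z = η[M] := by
    haveI : IsReduced (𝟙_ (Over (Spec (CommRingCat.of k)))).left :=
      inferInstanceAs (IsReduced (Spec (CommRingCat.of k)))
    haveI : Surjective (pullback.snd z.left η[M].left) := ⟨fun y => by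
      obtain ⟨w, hw⟩ : Component.one M ∈ Set.range z.left := by rw [hrZ]; exact Or.inr rfl
      have hy : η[M].left y = Component.one M := congrArg η[M].left (Subsingleton.elim (α := PrimeSpectrum k) _ _)
      obtain ⟨v, -, hv⟩ := Scheme.Pullback.exists_preimage_pullback w y (hw.trans hy.symm)
      exact ⟨v, hv⟩⟩
    obtain ⟨c₀, hc₀⟩ := Groth.L25.GeomRed.exists_factor (pullback.snd z.left η[M].left) (𝟙 _)
    refine ⟨Over.homMk (c₀ ≫ pullback.fst z.left η[M].left) (by
      rw [← Over.w z, Category.assoc, pullback.condition_assoc, Over.w η[M], reassoc_of% hc₀]), Over.OverMorphism.ext ?_⟩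
    show (c₀ ≫ pullback.fst _ _) ≫ z.left = _
    rw [Category.assoc, pullback.condition, reassoc_of% hc₀]
  -- a maximal closed subscheme killed by the homomorphism
  let 𝒯 := {W : M.left.IdealSheafData // (∃ e : Z.left ⟶ W.subscheme, e ≫ W.subschemeι = z.left) ∧
    F.map (Over.homMk W.subschemeι : Over.mk (W.subschemeι ≫ M.hom) ⟶ M) ≫ τ = 1}
  haveI : IsAffine M.left := isAffine_of_isAffineHom M.hom
  let top : M.left.affineOpens := ⟨⊤, isAffineOpen_top M.left⟩
  haveI : IsArtinianRing Γ(M.left, top.1) := by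
    haveI : IsLocallyArtinian M.left := IsLocallyArtinian.of_locallyQuasiFinite M.hom
    exact IsLocallyArtinian.isArtinianRing_presheaf_obj top
  let Φ : 𝒯 → Ideal Γ(M.left, top.1) := fun W => W.1.ideal top
  obtain ⟨_, ⟨⟨J, ⟨eZ, heZ⟩, hJ⟩, rfl⟩, hmin⟩ :=
    (wellFounded_lt (α := Ideal Γ(M.left, top.1))).has_min (Set.range Φ)
      ⟨_, ⟨⟨I, ⟨𝟙 _, Category.id_comp _⟩, hzτ⟩, rfl⟩⟩
  let W : Over (Spec (CommRingCat.of k)) := Over.mk (J.subschemeι ≫ M.hom)
  let w : W ⟶ M := Over.homMk J.subschemeι
  haveI : IsClosedImmersion w.left := inferInstanceAs (IsClosedImmersion J.subschemeι)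
  haveI : Mono w := Over.mono_of_mono_left w
  let eW : Z ⟶ W := Over.homMk eZ (by rw [← Over.w z, ← heZ, Category.assoc]; rfl)
  have heW : eW ≫ w = z := Over.OverMorphism.ext heZ
  obtain ⟨e1, he1⟩ := hηZ
  let f : W ⊗ W ⟶ M := (fst W W ≫ w) * (snd W W ≫ w)⁻¹
  haveI : IsAffine W.left := isAffine_of_isAffineHom J.subschemeι
  haveI : IsAffineHom (W ⊗ W).hom := by
    haveI : IsAffineHom W.hom := inferInstanceAs (IsAffineHom (J.subschemeι ≫ M.hom))
    exact inferInstanceAs (IsAffineHom (pullback.fst W.hom W.hom ≫ W.hom))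
  haveI : IsAffine (W ⊗ W).left := isAffine_of_isAffineHom (W ⊗ W).hom
  haveI : QuasiCompact f.left := inferInstance
  let J' := f.left.ker
  let W' : Over (Spec (CommRingCat.of k)) := Over.mk (f.left.imageι ≫ M.hom)
  let w' : W' ⟶ M := Over.homMk f.left.imageι
  let d : W ⊗ W ⟶ W' := Over.homMk f.left.toImage (by
    show f.left.toImage ≫ f.left.imageι ≫ M.hom = _
    rw [Scheme.Hom.toImage_imageι_assoc]; exact Over.w f)
  have hd : d ≫ w' = f := Over.OverMorphism.ext (Scheme.Hom.toImage_imageι _)
  haveI : IsSchemeTheoreticallyDominant d.left := Groth.L13.MP.dominant_toImage f.left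
  haveI : QuasiCompact d.left := inferInstanceAs (QuasiCompact f.left.toImage)
  have hfτ : F.map f ≫ τ = 1 := by
    have hw : ∀ {T : Over (Spec (CommRingCat.of k))} (a : T ⟶ W), F.map (a ≫ w) ≫ τ = 1 := fun a => by
      rw [Functor.map_comp, Category.assoc, hJ, MonObj.comp_one]
    rw [Functor.map_mul, show F.map (snd W W ≫ w)⁻¹ = (F.map (snd W W ≫ w))⁻¹ from
      map_inv (Functor.homMonoidHom F) _, MonObj.mul_comp, GrpObj.inv_comp, hw, hw, inv_one, _root_.mul_one]
  have hw'τ : F.map w' ≫ τ = 1 := map_comp_eq_one_of_image τ d w' (by rw [hd]; exact hfτ)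
  let incl : W ⟶ W' := CartesianMonoidalCategory.lift (𝟙 W) (toUnit W ≫ e1 ≫ eW) ≫ d
  have hincl : incl ≫ w' = w := by
    rw [Category.assoc, hd, MonObj.comp_mul, GrpObj.comp_inv, lift_fst_assoc, lift_snd_assoc, Category.id_comp,
      Category.assoc, Category.assoc, heW, he1, ← Hom.one_def, inv_one, _root_.mul_one]
  have hle : J' ≤ J := by
    calc J' = w'.left.ker := (Scheme.IdealSheafData.ker_subschemeι _).symm
      _ ≤ (incl.left ≫ w'.left).ker := Scheme.Hom.le_ker_comp _ _
      _ = J := by rw [← Over.comp_left, hincl]; exact Scheme.IdealSheafData.ker_subschemeι J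
  let t' : 𝒯 := ⟨J', ⟨eZ ≫ incl.left, by
    show (eZ ≫ incl.left) ≫ w'.left = z.left
    rw [Category.assoc, ← Over.comp_left, hincl]
    exact heZ⟩, hw'τ⟩
  have hJJ : J = J' := by
    refine Scheme.IdealSheafData.ext_of_isAffine ?_
    exact ((le_iff_eq_or_lt.1 (hle top)).resolve_right (hmin _ ⟨t', rfl⟩)).symm
  let back : W' ⟶ W := Over.homMk (IsClosedImmersion.lift w.left w'.left (by
      rw [show w.left.ker = J from Scheme.IdealSheafData.ker_subschemeι J,
        show w'.left.ker = J' from Scheme.IdealSheafData.ker_subschemeι J', hJJ])) (by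
    rw [← Over.w w, IsClosedImmersion.lift_fac_assoc]
    exact Over.w w')
  have hback : back ≫ w = w' := Over.OverMorphism.ext (IsClosedImmersion.lift_fac _ _ _)
  have hdiv : ∀ {T : Over (Spec (CommRingCat.of k))} (a b : T ⟶ W), ∃ c : T ⟶ W, c ≫ w = (a ≫ w) * (b ≫ w)⁻¹ :=
    fun a b => ⟨CartesianMonoidalCategory.lift a b ≫ d ≫ back, by
      rw [Category.assoc, Category.assoc, hback, hd, MonObj.comp_mul, GrpObj.comp_inv, lift_fst_assoc,
        lift_snd_assoc]⟩
  obtain ⟨gU, hwhom⟩ := Groth.L08.exists_grpObj_of_mono w ⟨e1 ≫ eW, by rw [Category.assoc, heW, he1]⟩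
    (by
      obtain ⟨c, hc⟩ := hdiv (toUnit _ ≫ e1 ≫ eW) (snd W W)
      obtain ⟨c', hc'⟩ := hdiv (fst W W) c
      refine ⟨c', ?_⟩
      rw [hc', hc, Category.assoc, Category.assoc, heW, he1, ← Hom.one_def, _root_.one_mul, inv_inv])
    (by
      obtain ⟨c, hc⟩ := hdiv (toUnit _ ≫ e1 ≫ eW) (𝟙 W)
      refine ⟨c, ?_⟩
      rw [hc, Category.assoc, Category.assoc, heW, he1, ← Hom.one_def, _root_.one_mul, Category.id_comp])
  refine ⟨W, gU, w, hwhom, inferInstance, hJ, fun h => hm ?_⟩
  obtain ⟨zm, hzm⟩ : m ∈ Set.range z.left := by rw [hrZ]; exact Or.inl rfl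
  have h1 : w.left (eW.left zm) = m := (congr(($heW).left zm)).trans hzm
  rw [← h1]
  exact (congr(($h).left (eW.left zm))).trans (congrArg η[M].left (Subsingleton.elim (α := PrimeSpectrum k) _ _))

/-- The trace is universally injective over a regular extension. -/
theorem universallyInjective_trace [GeometricallyIntegral (AbVar.ext k K)]
    {A : Over (Spec (CommRingCat.of K))} [GrpObj A] [IsProper A.hom] [GeometricallyIntegral A.hom]
    (A' : Over (Spec (CommRingCat.of k))) [GrpObj A'] [IsProper A'.hom] [GeometricallyIntegral A'.hom]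
    (τ : Red.bc (AbVar.ext k K) A' ⟶ A) (h : AbVar.IsChowTrace k K A A' τ) :
    UniversallyInjective τ.left := by
  haveI := h.isMonHom
  haveI := h.isFinite
  let F := Over.pullback (AbVar.ext k K)
  let AK := Red.bc (AbVar.ext k K) A'
  haveI : IsProper AK.hom := MorphismProperty.pullback_snd (P := @IsProper) _ _ ‹_›
  haveI : GeometricallyIntegral AK.hom := MorphismProperty.pullback_snd (P := @GeometricallyIntegral) _ _ ‹_›
  obtain ⟨N, gN, κ, _, _, hc, sq⟩ := AbelianGrp.exists_kernel τ
  haveI : IsCommMonObj AK := isCommMonObj_of_isProper_of_geometricallyIntegral AK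
  haveI : IsCommMonObj A' := isCommMonObj_of_isProper_of_geometricallyIntegral A'
  haveI : IsCommMonObj N := hc inferInstance
  haveI : Mono κ := Over.mono_of_mono_left κ
  haveI : IsIso (𝟙_ (Over (Spec (CommRingCat.of K)))).hom := inferInstanceAs (IsIso (𝟙 _))
  haveI : IsFinite N.hom := by
    rw [← Over.w (toUnit N)]
    exact (MorphismProperty.cancel_right_of_respectsIso @IsFinite _ (𝟙_ (Over (Spec (CommRingCat.of K)))).hom).2
      (MorphismProperty.of_isPullback (sq.map (Over.forget _)) ‹IsFinite τ.left›)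
  haveI : Surjective N.hom := ⟨fun x => ⟨Component.one N, Subsingleton.elim (α := PrimeSpectrum K) _ _⟩⟩
  have hsub : Subsingleton N.left := by
    refine ⟨fun a b => ?_⟩
    suffices hone : ∀ y, y = Component.one N from (hone a).trans (hone b).symm
    intro y
    by_contra hy
    let n := N.hom.finrank (IsLocalRing.closedPoint K)
    have hn : 1 ≤ n := (Scheme.Hom.one_le_finrank_iff_surjective N.hom).2 ‹Surjective N.hom› _
    have hN : (𝟙 N : N ⟶ N) ^ n = 1 := Deligne.pow_eq_one N n fun s =>
      congrArg N.hom.finrank (Subsingleton.elim (α := PrimeSpectrum K) _ _)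
    haveI : IsMonHom (𝟙 A' ^ n) := Groth.Agent.AV.Isogeny.isMonHom_pow n
    obtain ⟨M, gM, mM, _, _, -, sqM⟩ := AbelianGrp.exists_kernel (𝟙 A' ^ n)
    haveI : IsIso (𝟙_ (Over (Spec (CommRingCat.of k)))).hom := inferInstanceAs (IsIso (𝟙 _))
    haveI : IsFinite M.hom := by
      rw [← Over.w (toUnit M)]
      exact (MorphismProperty.cancel_right_of_respectsIso @IsFinite _ (𝟙_ (Over (Spec (CommRingCat.of k)))).hom).2
        (MorphismProperty.of_isPullback (sqM.map (Over.forget _)) (Groth.Agent.AV.Degree.isogeny_pow (A := A') hn).1)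
    haveI : IsMonHom (F.map mM) := Groth.L25.MonoClosed.isMonHom_pullbackMap _ _
    haveI : Mono mM := Over.mono_of_mono_left mM
    haveI : Mono (F.map mM) := Functor.map_mono F mM
    obtain ⟨N', gN', ν, _, _, -, sqν⟩ := AbelianGrp.exists_kernel (F.map mM ≫ τ)
    have hκ : κ ≫ τ = 1 := sq.w.trans (Hom.one_def).symm
    obtain ⟨b, hb⟩ := exists_lift_bc mM (𝟙 A' ^ n) sqM κ (by
      show κ ≫ Functor.homMonoidHom F (𝟙 A' ^ n) = 1
      rw [map_pow, show Functor.homMonoidHom F (𝟙 A') = 𝟙 AK from CategoryTheory.Functor.map_id F A',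
        MonObj.comp_pow, Category.comp_id, show κ = 𝟙 N ≫ κ from (Category.id_comp κ).symm, ← MonObj.pow_comp, hN,
        MonObj.one_comp])
    obtain ⟨z, hz, -⟩ := sqν.exists_lift b (toUnit N) (by rw [reassoc_of% hb, hκ, Hom.one_def])
    obtain ⟨U, gU, j, _, _, hjτ, hj1⟩ := exists_subgroup_of_point M (F.map mM ≫ τ) ν sqν (z.left y) (by
      intro e
      apply hy
      have h1 : b.left y = Component.one (Red.bc (AbVar.ext k K) M) := (congr(($hz).left y)).symm.trans e
      have h2 : κ.left y = κ.left (Component.one N) := by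
        calc κ.left y = (F.map mM).left (b.left y) := (congr(($hb).left y)).symm
          _ = η[AK].left (IsLocalRing.closedPoint K) := by
            rw [h1]; exact congr(($(IsMonHom.one_hom (f := F.map mM))).left (IsLocalRing.closedPoint K))
          _ = κ.left (Component.one N) := (congr(($(IsMonHom.one_hom (f := κ))).left (IsLocalRing.closedPoint K))).symm
      exact κ.left.isClosedEmbedding.injective h2)
    let j₀ : U ⟶ A' := j ≫ mM
    haveI : IsMonHom j₀ := inferInstanceAs (IsMonHom (j ≫ mM))
    haveI : IsClosedImmersion j₀.left := inferInstanceAs (IsClosedImmersion (j.left ≫ mM.left))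
    haveI : Mono j₀ := Over.mono_of_mono_left j₀
    have hj₀τ : F.map j₀ ≫ τ = 1 := by rw [Functor.map_comp, Category.assoc]; exact hjτ
    obtain ⟨B, gB, q₀, _, _, _, _, _, _, -, sqQ⟩ := AbelianGrp.exists_quotient j₀
    obtain ⟨_, _⟩ := abelian_of_cover q₀
    haveI : IsMonHom (F.map q₀) := Groth.L25.MonoClosed.isMonHom_pullbackMap _ _
    haveI : IsProper (Red.bc (AbVar.ext k K) B).hom := MorphismProperty.pullback_snd (P := @IsProper) _ _ ‹_›
    haveI : Surjective (F.map q₀).left :=
      MorphismProperty.of_isPullback (P := @Surjective) (isPullback_bc_map q₀).flip ‹Surjective q₀.left›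
    haveI : Flat (F.map q₀).left :=
      MorphismProperty.of_isPullback (P := @Flat) (isPullback_bc_map q₀).flip ‹Flat q₀.left›
    haveI : Mono (F.map j₀) := Functor.map_mono F j₀
    have hsqF : AlgGrp.IsKernel (F.map j₀) (F.map q₀) := by
      have hjq : F.map j₀ ≫ F.map q₀ = 1 := by
        rw [← Functor.map_comp, show j₀ ≫ q₀ = 1 from sqQ.w.trans (Hom.one_def).symm, Functor.map_one]
      refine IsPullback.mk' (hjq.trans Hom.one_def) (fun T a b e1 _ => (cancel_mono _).1 e1) (fun T a c e => ?_)
      obtain ⟨r, hr⟩ := exists_lift_bc j₀ q₀ sqQ a (by rw [e, toUnit_unique c (toUnit T), ← Hom.one_def])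
      exact ⟨r, hr, toUnit_unique _ _⟩
    obtain ⟨γ, _, hγ, -⟩ := Groth.Agent.S3280.result K AK (F.obj U) (Red.bc (AbVar.ext k K) B) A (F.map q₀)
      (F.map j₀) hsqF τ (by rw [hj₀τ, Hom.one_def])
    obtain ⟨β₀, _, hβ₀⟩ := h.fac B γ
    let e : A' ⟶ A' := (q₀ ≫ β₀) * (𝟙 A')⁻¹
    have he : F.map e ≫ τ = 1 := by
      rw [Functor.map_mul, show F.map (𝟙 A')⁻¹ = (F.map (𝟙 A'))⁻¹ from map_inv (Functor.homMonoidHom F) _,
        MonObj.mul_comp, GrpObj.inv_comp, Functor.map_comp, Category.assoc, hβ₀, hγ, CategoryTheory.Functor.map_id,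
        Category.id_comp, mul_inv_cancel]
    obtain ⟨a, ha, -⟩ := sq.exists_lift (F.map e) (toUnit _) (by rw [he, Hom.one_def])
    have hηe : η[AK] ≫ F.map e = η[AK] := by
      have h1 : η[A'] ≫ e = η[A'] := by
        simp only [e, MonObj.comp_mul, GrpObj.comp_inv, IsMonHom.one_hom, Category.comp_id]
        rw [one_eq_one, inv_one, _root_.mul_one]
      show (Functor.LaxMonoidal.ε F ≫ F.map η[A']) ≫ F.map e = Functor.LaxMonoidal.ε F ≫ F.map η[A']
      rw [Category.assoc, ← Functor.map_comp, h1]
    haveI : Nonempty AK.left := ⟨Component.one AK⟩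
    haveI := isIso_appTop_of_proper AK.hom
    haveI : IsAffine N.left := isAffine_of_isAffineHom N.hom
    obtain ⟨d, hd⟩ := AffHull.desc_of_isIso_appTop AK.hom a.left
    have hd' : d = η[AK].left ≫ a.left := by
      rw [← hd, ← Category.assoc, Over.w η[AK]]
      exact (Category.id_comp d).symm
    have hconst : a = toUnit AK ≫ η[AK] ≫ a := by
      refine Over.OverMorphism.ext ?_
      show a.left = (toUnit AK).left ≫ η[AK].left ≫ a.left
      rw [← hd', show (toUnit AK).left = AK.hom from (Category.comp_id _).symm.trans (Over.w (toUnit AK))]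
      exact hd.symm
    have he1 : F.map e = F.map 1 := by
      rw [← ha, hconst, Category.assoc, Category.assoc, ha, hηe, Functor.map_one, Hom.one_def]
    have he2 : q₀ ≫ β₀ = 𝟙 A' := mul_inv_eq_one.1 (map_injective e 1 he1)
    apply hj1
    rw [← cancel_mono mM, MonObj.one_comp, ← Category.comp_id (j ≫ mM), ← he2, ← Category.assoc (j ≫ mM),
      show (j ≫ mM) ≫ q₀ = 1 from sqQ.w.trans (Hom.one_def).symm, MonObj.one_comp]
  haveI : ConnectedSpace N.left := { toNonempty := ⟨Component.one N⟩, toPreconnectedSpace := inferInstance }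
  obtain ⟨C, gC, q, iC, _, _, hqi, _, _, _, _⟩ := AbelianGrp.exists_image τ
  haveI : LocallyOfFiniteType C.hom := by rw [← Over.w iC]; infer_instance
  haveI : QuasiCompact C.hom := by rw [← Over.w iC]; infer_instance
  obtain ⟨_, _⟩ := abelian_of_cover q
  haveI : IsFinite (q.left ≫ iC.left) := by rw [← Over.comp_left, hqi]; infer_instance
  haveI : IsFinite q.left := IsFinite.of_comp q.left iC.left
  haveI : Mono iC := Over.mono_of_mono_left iC
  have sqq : AlgGrp.IsKernel κ q := by
    refine IsPullback.mk' ?_ (fun T a b e _ => (cancel_mono κ).1 e) (fun T a c e => ?_)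
    · rw [← cancel_mono iC, Category.assoc, hqi, sq.w, Category.assoc, IsMonHom.one_hom]
    · obtain ⟨r, hr, -⟩ := sq.exists_lift a (toUnit T) (by
        rw [← hqi, ← Category.assoc, e, Category.assoc, IsMonHom.one_hom, toUnit_unique c (toUnit T)])
      exact ⟨r, hr, toUnit_unique _ _⟩
  haveI : UniversallyInjective q.left := (Groth.Agent.S16676.result K AK C q N κ sqq).2 inferInstance
  rw [← hqi, Over.comp_left]
  haveI : UniversallyInjective iC.left := inferInstance
  exact MorphismProperty.comp_mem (W := @UniversallyInjective) _ _ ‹UniversallyInjective q.left› ‹_›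

end Groth.L08.Albanese
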