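import Groth.Agent.L08.AbelianGrp
import Groth.Agent.L13.ModPair.Basic
import Groth.Agent.L25.MonoClosed.Main
import Groth.Agent.L26.AV.Hom
import Groth.Agent.L26.AV.SmoothField
import Groth.Agent.L26.AV.NonNoethHom
import Groth.Agent.S4619
import Groth.Prelude.Def_W4bk6langav68Chow
import Mathlib.AlgebraicGeometry.Morphisms.LocalFlatDescent

/-!
# Abelian subvarieties descend along primary extensions
-/

set_option autoImplicit false
set_option backward.isDefEq.respectTransparency.types false
set_option linter.style.haveILetI false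

universe u

open CategoryTheory CategoryTheory.Limits MonoidalCategory CartesianMonoidalCategory MonObj AlgebraicGeometry

noncomputable section

namespace Groth.L08.Albanese

variable {k K : Type u} [Field k] [Field K] [Algebra k K]

/-- A primary extension is geometrically connected. -/
theorem geometricallyConnected_of_primary (h : AbVar.IsPrimaryExt k K) :
    GeometricallyConnected (AbVar.ext k K) := by
  haveI : Subsingleton (Spec (CommRingCat.of K) : Scheme.{u}) := inferInstanceAs (Subsingleton (PrimeSpectrum K))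
  haveI : ConnectedSpace (Spec (CommRingCat.of K) : Scheme.{u}) := inferInstanceAs (ConnectedSpace (PrimeSpectrum K))
  haveI : IsReduced (Spec (CommRingCat.of K) : Scheme.{u}) := inferInstance
  let x : (Spec (CommRingCat.of K) : Scheme.{u}) := IsLocalRing.closedPoint K
  let X : Scheme.{u} := Spec (CommRingCat.of K)
  let φ := Spec.preimage (X.fromSpecResidueField x ≫ AbVar.ext k K)
  refine Groth.Agent.S4619.result (AbVar.ext k K) x ⟨φ.hom, Spec.map_preimage _, ?_⟩
  haveI : Surjective (X.fromSpecResidueField x) := ⟨fun y => ⟨IsLocalRing.closedPoint _, Subsingleton.elim _ _⟩⟩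
  haveI : IsClosedImmersion (X.fromSpecResidueField x) :=
    .of_isPreimmersion _ (by rw [(X.fromSpecResidueField x).surjective.range_eq]; exact isClosed_univ)
  haveI : IsIso (X.fromSpecResidueField x) := isIso_of_isClosedImmersion_of_surjective _
  let ψ := Spec.preimage (X.fromSpecResidueField x)
  haveI : IsIso ψ := by
    haveI : IsIso (Spec.map ψ) := by rw [Spec.map_preimage]; infer_instance
    obtain ⟨g, hg1, hg2⟩ := ‹IsIso (Spec.map ψ)›
    obtain ⟨g', rfl⟩ := Spec.map_surjective g
    exact ⟨g', Spec.map_injective (by rw [Spec.map_comp, hg2, Spec.map_id]),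
      Spec.map_injective (by rw [Spec.map_comp, hg1, Spec.map_id])⟩
  have hφ : φ = CommRingCat.ofHom (algebraMap k K) ≫ ψ := by
    apply Spec.map_injective
    rw [Spec.map_comp, Spec.map_preimage, Spec.map_preimage]
  letI := φ.hom.toAlgebra
  let e : K →ₐ[k] X.residueField x :=
    { ψ.hom with commutes' := fun c => (congr(($hφ).hom c)).symm }
  refine IntermediateField.ext fun a => ⟨fun ha => ?_, fun ha => bot_le (a := separableClosure k _) ha⟩
  obtain ⟨b, rfl⟩ := (ConcreteCategory.bijective_of_isIso ψ).2 a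
  have hb : IsSeparable k b := by
    have h1 : IsSeparable k (e b) := mem_separableClosure_iff.1 ha
    rw [IsSeparable] at h1 ⊢
    rwa [minpoly.algHom_eq e e.toRingHom.injective] at h1
  obtain ⟨c, rfl⟩ := h b hb
  exact IntermediateField.mem_bot.2 ⟨c, (e.commutes c).symm⟩

/-- Factor through a closed subscheme what factors on a schematically dominant piece. -/
theorem exists_factor_dominant {P Q X Z : Scheme.{u}} (q : P ⟶ Q) [IsSchemeTheoreticallyDominant q] (φ : Q ⟶ X)
    (j : Z ⟶ X) [IsClosedImmersion j] (l : P ⟶ Z) (hl : l ≫ j = q ≫ φ) : ∃ φ' : Q ⟶ Z, φ' ≫ j = φ := by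
  let i := pullback.fst φ j
  have e : pullback.lift q l hl.symm ≫ i = q := pullback.lift_fst _ _ _
  have hk : i.ker = ⊥ := by
    refine le_bot_iff.1 ?_
    calc i.ker ≤ (pullback.lift q l hl.symm ≫ i).ker := Scheme.Hom.le_ker_comp _ _
      _ = ⊥ := by rw [e]; exact q.ker_eq_bot
  haveI : IsIso i := IsClosedImmersion.isIso_iff_ker_eq_bot.2 hk
  exact ⟨CategoryTheory.inv i ≫ pullback.snd φ j, by rw [Category.assoc, ← pullback.condition, IsIso.inv_hom_id_assoc]⟩

variable {A : Over (Spec (CommRingCat.of k))} {B : Over (Spec (CommRingCat.of k))}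

/-- Factorisations through a closed immersion descend along field extensions. -/
theorem exists_factor_of_bc (j : B ⟶ A) [IsClosedImmersion j.left] {T : Over (Spec (CommRingCat.of k))} (f : T ⟶ A)
    (h : ∃ z : Red.bc (AbVar.ext k K) T ⟶ Red.bc (AbVar.ext k K) B,
      z ≫ (Over.pullback (AbVar.ext k K)).map j = (Over.pullback (AbVar.ext k K)).map f) :
    ∃ z : T ⟶ B, z ≫ j = f := by
  obtain ⟨z, hz⟩ := h
  let F := Over.pullback (AbVar.ext k K)
  let pr := pullback.fst f j
  haveI : Mono j := Over.mono_of_mono_left j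
  haveI : Mono pr := inferInstance
  have hsq := (IsPullback.of_hasPullback f j).map F
  obtain ⟨s, hs, -⟩ := hsq.exists_lift (𝟙 _) z (by rw [Category.id_comp, hz])
  haveI : Mono (F.map pr) := Functor.map_mono F pr
  haveI : IsIso (F.map pr) := ⟨s, by rw [← cancel_mono (F.map pr), Category.assoc, hs, Category.comp_id,
    Category.id_comp], hs⟩
  haveI : Surjective (AbVar.ext k K) := ⟨fun x => ⟨IsLocalRing.closedPoint K, Subsingleton.elim (α := PrimeSpectrum k) _ _⟩⟩
  have hp : IsPullback (F.map pr).left (pullback.fst (pullback f j).hom (AbVar.ext k K))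
      (pullback.fst T.hom (AbVar.ext k K)) pr.left := by
    have hl : (F.map pr).left ≫ pullback.fst T.hom (AbVar.ext k K) =
        pullback.fst (pullback f j).hom (AbVar.ext k K) ≫ pr.left := pullback.lift_fst _ _ _
    refine IsPullback.of_bot ?_ hl.symm (IsPullback.of_hasPullback T.hom (AbVar.ext k K)) |>.flip
    rw [show pr.left ≫ T.hom = (pullback f j).hom from Over.w pr,
      show (F.map pr).left ≫ pullback.snd T.hom (AbVar.ext k K) = pullback.snd (pullback f j).hom (AbVar.ext k K) from
        Over.w (F.map pr)]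
    exact IsPullback.of_hasPullback (pullback f j).hom (AbVar.ext k K)
  haveI : IsIso pr.left :=
    MorphismProperty.of_isPullback_of_descendsAlong (P := MorphismProperty.isomorphisms Scheme.{u})
      (Q := @Surjective ⊓ @Flat ⊓ @QuasiCompact) hp
      ⟨⟨inferInstanceAs (Surjective (pullback.fst T.hom (AbVar.ext k K))),
        inferInstanceAs (Flat (pullback.fst T.hom (AbVar.ext k K)))⟩,
        inferInstanceAs (QuasiCompact (pullback.fst T.hom (AbVar.ext k K)))⟩
      (inferInstanceAs (IsIso ((Over.forget _).map (F.map pr))))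
  haveI : IsIso ((Over.forget _).map pr) := ‹IsIso pr.left›
  haveI : IsIso pr := isIso_of_reflects_iso pr (Over.forget _)
  exact ⟨CategoryTheory.inv pr ≫ pullback.snd f j, by
    rw [Category.assoc, ← pullback.condition, IsIso.inv_hom_id_assoc]⟩

/-- An abelian subvariety over a primary extension is defined over the base field. -/
theorem exists_descend (h : AbVar.IsPrimaryExt k K) (A : Over (Spec (CommRingCat.of k))) [GrpObj A]
    [IsProper A.hom] [GeometricallyIntegral A.hom]
    (B' : Over (Spec (CommRingCat.of K))) [GrpObj B'] [IsProper B'.hom] [GeometricallyIntegral B'.hom]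
    (i' : B' ⟶ Red.bc (AbVar.ext k K) A) [IsMonHom i'] [IsClosedImmersion i'.left] :
    ∃ (B : Over (Spec (CommRingCat.of k))) (_ : GrpObj B) (i : B ⟶ A), IsProper B.hom ∧ GeometricallyIntegral B.hom ∧
      IsMonHom i ∧ IsClosedImmersion i.left ∧
      ∃ e : Red.bc (AbVar.ext k K) B ≅ B', e.hom ≫ i' = (Over.pullback (AbVar.ext k K)).map i := by
  let t := AbVar.ext k K
  haveI := geometricallyConnected_of_primary h
  haveI : GeometricallyConnected t := ‹GeometricallyConnected (AbVar.ext k K)›
  haveI : Surjective t := ⟨fun x => ⟨IsLocalRing.closedPoint K, Subsingleton.elim (α := PrimeSpectrum k) _ _⟩⟩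
  let AK := Red.bc t A
  haveI : IsProper AK.hom := MorphismProperty.pullback_snd (P := @IsProper) A.hom t ‹_›
  haveI : GeometricallyIntegral AK.hom := MorphismProperty.pullback_snd (P := @GeometricallyIntegral) A.hom t ‹_›
  haveI : IsCommMonObj AK := isCommMonObj_of_isProper_of_geometricallyIntegral AK
  haveI : Mono i' := Over.mono_of_mono_left i'
  obtain ⟨Q, gQ, q, hqm, -, -, -, -, -, -, sqQ⟩ := AbelianGrp.exists_quotient i'
  haveI := AbelianGrp.isSeparated Q
  haveI : GeometricallyReduced B'.hom := inferInstance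
  haveI : GrpObj (Over.mk B'.hom) := ‹GrpObj B'›
  haveI : Smooth B'.hom := AlgebraicGeometry.smooth_of_grpObj B'.hom
  let p₁ : pullback t t ⟶ Spec (CommRingCat.of K) := pullback.fst t t
  let p₂ : pullback t t ⟶ Spec (CommRingCat.of K) := pullback.snd t t
  let X := pullback B'.hom p₁
  let g : X ⟶ pullback t t := pullback.snd B'.hom p₁
  let a : X ⟶ B'.left := pullback.fst B'.hom p₁
  let π : AK.left ⟶ A.left := pullback.fst A.hom t
  have hi's : i'.left ≫ AK.hom = B'.hom := Over.w i'
  have hπ : π ≫ A.hom = AK.hom ≫ t := pullback.condition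
  have ha : a ≫ B'.hom = g ≫ p₁ := pullback.condition
  let ψ : X ⟶ AK.left := pullback.lift (a ≫ i'.left ≫ π) (g ≫ p₂) (by
    rw [Category.assoc, Category.assoc, hπ, reassoc_of% hi's, reassoc_of% ha, Category.assoc,
      show p₁ ≫ t = p₂ ≫ t from pullback.condition])
  have hψ1 : ψ ≫ π = a ≫ i'.left ≫ π := pullback.lift_fst _ _ _
  have hψ2 : ψ ≫ AK.hom = g ≫ p₂ := pullback.lift_snd _ _ _
  let f : X ⟶ Q.left := ψ ≫ q.left
  have hf : f ≫ Q.hom = g ≫ p₂ := by rw [Category.assoc, Over.w q, hψ2]
  haveI : GeometricallyReduced B'.hom := inferInstance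
  haveI : IsProper g := MorphismProperty.pullback_snd (P := @IsProper) _ _ ‹IsProper B'.hom›
  haveI : Flat g := MorphismProperty.pullback_snd (P := @Flat) _ _ (inferInstance : Flat B'.hom)
  haveI : LocallyOfFinitePresentation g :=
    MorphismProperty.pullback_snd (P := @LocallyOfFinitePresentation) _ _ (inferInstance : LocallyOfFinitePresentation B'.hom)
  haveI : GeometricallyReduced g := inferInstanceAs (GeometricallyReduced (pullback.snd B'.hom p₁))
  haveI : GeometricallyConnected B'.hom := inferInstance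
  haveI : GeometricallyConnected g := inferInstanceAs (GeometricallyConnected (pullback.snd B'.hom p₁))
  haveI : GeometricallyConnected p₂ := inferInstanceAs (GeometricallyConnected (pullback.snd t t))
  let e : Spec (CommRingCat.of K) ⟶ pullback t t := pullback.lift (𝟙 _) (𝟙 _) rfl
  have he1 : e ≫ p₁ = 𝟙 _ := pullback.lift_fst _ _ _
  have he2 : e ≫ p₂ = 𝟙 _ := pullback.lift_snd _ _ _
  -- over the diagonal the morphism is the unit
  have hcoll : ∀ s, e s ∈ Groth.Agent.AV.collapsed g f := by
    intro s x x' hx hx'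
    let d := pullback.fst g e
    let c := pullback.snd g e
    have hdc : d ≫ g = c ≫ e := pullback.condition
    have hd : d ≫ ψ = d ≫ a ≫ i'.left := by
      apply pullback.hom_ext
      · show (d ≫ ψ) ≫ π = (d ≫ a ≫ i'.left) ≫ π
        rw [Category.assoc, hψ1, Category.assoc, Category.assoc]
      · show (d ≫ ψ) ≫ AK.hom = (d ≫ a ≫ i'.left) ≫ AK.hom
        rw [Category.assoc, hψ2, Category.assoc, Category.assoc, hi's, ha, reassoc_of% hdc, reassoc_of% hdc, he1, he2]
    have hw : i'.left ≫ q.left = B'.hom ≫ (η[Q] : _ ⟶ Q).left := by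
      have := congrArg CommaMorphism.left sqQ.w
      simp only [Over.comp_left] at this
      rw [this, show (toUnit B').left = B'.hom from (Category.comp_id _).symm.trans (Over.w (toUnit B'))]
    have key : ∀ y, g y = e s → f y = (η[Q] : _ ⟶ Q).left (IsLocalRing.closedPoint K) := by
      intro y hy
      obtain ⟨z, hz, -⟩ := Scheme.Pullback.exists_preimage_pullback y s hy
      rw [← hz]
      show (d ≫ ψ ≫ q.left) z = _
      rw [reassoc_of% hd, hw]
      exact congrArg (η[Q] : _ ⟶ Q).left (Subsingleton.elim (α := PrimeSpectrum K) _ _)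
    exact (key x hx).trans (key x' hx').symm
  obtain ⟨k', hk'⟩ := Groth.Agent.AV.exists_factor_of_collapsed_section g p₂ e he2 Q.hom f hf hcoll
  let σ : pullback t t ⟶ X := pullback.lift (p₁ ≫ η[B'].left) (𝟙 _) (by
    rw [Category.assoc, Category.id_comp, Over.w η[B']]
    exact Category.comp_id _)
  have hσ : σ ≫ ψ = p₂ ≫ η[AK].left := by
    have h1 : η[B'].left ≫ i'.left = η[AK].left := by
      rw [← Over.comp_left, IsMonHom.one_hom]
    have h2 : η[AK].left ≫ π = t ≫ η[A].left := by
      show ((Functor.LaxMonoidal.ε (Over.pullback t)) ≫ (Over.pullback t).map η[A]).left ≫ π = _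
      simp [π]
      refine (pullback.lift_fst _ _ _).trans ?_
      rw [← Category.assoc, ← pullback.condition, Category.comp_id]
    apply pullback.hom_ext
    · show (σ ≫ ψ) ≫ π = (p₂ ≫ η[AK].left) ≫ π
      rw [Category.assoc, hψ1, Category.assoc, h2, ← Category.assoc σ,
        show σ ≫ a = p₁ ≫ η[B'].left from pullback.lift_fst _ _ _, Category.assoc, reassoc_of% h1, h2,
        ← Category.assoc, ← Category.assoc, show p₁ ≫ t = p₂ ≫ t from pullback.condition]
    · show (σ ≫ ψ) ≫ AK.hom = (p₂ ≫ η[AK].left) ≫ AK.hom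
      rw [Category.assoc, hψ2, Category.assoc, Over.w η[AK],
        show σ ≫ g ≫ p₂ = p₂ from by rw [← Category.assoc, pullback.lift_snd, Category.id_comp]]
      exact (Category.comp_id _).symm
  have hf' : f = g ≫ p₂ ≫ (η[Q] : _ ⟶ Q).left := by
    have h1 : σ ≫ f = k' := by rw [hk', ← Category.assoc, pullback.lift_snd, Category.id_comp]
    have h3 : η[AK].left ≫ q.left = (η[Q] : _ ⟶ Q).left := by rw [← Over.comp_left, IsMonHom.one_hom]
    rw [hk', ← h1, ← Category.assoc σ, hσ, Category.assoc, h3]
  obtain ⟨φ, hφ, -⟩ := (sqQ.map (Over.forget _)).exists_lift ψ (g ≫ p₂) (by rw [Category.assoc]; exact hf')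
  change φ ≫ i'.left = ψ at hφ
  -- the scheme-theoretic image
  let m : B'.left ⟶ A.left := i'.left ≫ π
  haveI : QuasiCompact m := inferInstance
  let B : Over (Spec (CommRingCat.of k)) := Over.mk (m.imageι ≫ A.hom)
  let j : B ⟶ A := Over.homMk m.imageι
  haveI : IsClosedImmersion j.left := inferInstanceAs (IsClosedImmersion m.imageι)
  haveI : Mono j := Over.mono_of_mono_left j
  let F := Over.pullback t
  let BK := Red.bc t B
  let ρ : BK.left ⟶ B.left := pullback.fst B.hom t
  have hρ : (F.map j).left ≫ π = ρ ≫ m.imageι := pullback.lift_fst _ _ _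
  haveI : IsSchemeTheoreticallyDominant m.toImage := Groth.L13.MP.dominant_toImage m
  haveI : Flat ρ := inferInstanceAs (Flat (pullback.fst B.hom t))
  let δ : pullback m.toImage ρ ⟶ BK.left := pullback.snd m.toImage ρ
  let b : pullback m.toImage ρ ⟶ B'.left := pullback.fst m.toImage ρ
  haveI : IsSchemeTheoreticallyDominant δ :=
    IsSchemeTheoreticallyDominant.of_isPullback (IsPullback.of_hasPullback m.toImage ρ)
  have hb : b ≫ m = δ ≫ ρ ≫ m.imageι := by
    calc b ≫ m = b ≫ m.toImage ≫ m.imageι := by rw [Scheme.Hom.toImage_imageι]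
      _ = (δ ≫ ρ) ≫ m.imageι := by rw [← Category.assoc, pullback.condition]
      _ = _ := Category.assoc _ _ _
  let l : pullback m.toImage ρ ⟶ pullback t t := pullback.lift (b ≫ B'.hom) (δ ≫ BK.hom) (by
    rw [← hi's, Category.assoc, Category.assoc, Category.assoc, ← hπ, show BK.hom ≫ t = ρ ≫ B.hom from pullback.condition.symm,
      show B.hom = m.imageι ≫ A.hom from rfl, ← reassoc_of% hb]
    rw [Category.assoc])
  let u : pullback m.toImage ρ ⟶ X := pullback.lift b l (pullback.lift_fst _ _ _).symm
  have hu : (u ≫ φ) ≫ i'.left = δ ≫ (F.map j).left := by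
    rw [Category.assoc, hφ]
    apply pullback.hom_ext
    · show (u ≫ ψ) ≫ π = (δ ≫ (F.map j).left) ≫ π
      rw [Category.assoc, hψ1, Category.assoc, hρ, ← Category.assoc u, show u ≫ a = b from pullback.lift_fst _ _ _, ← hb]
    · show (u ≫ ψ) ≫ AK.hom = (δ ≫ (F.map j).left) ≫ AK.hom
      rw [Category.assoc, hψ2, Category.assoc, Over.w (F.map j), ← Category.assoc u,
        show u ≫ g = l from pullback.lift_snd _ _ _, show l ≫ p₂ = δ ≫ BK.hom from pullback.lift_snd _ _ _]
  obtain ⟨w₀, hw₀⟩ := exists_factor_dominant δ (F.map j).left i'.left (u ≫ φ) hu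
  let w : BK ⟶ B' := Over.homMk w₀ (by
    rw [← hi's, reassoc_of% hw₀]
    exact Over.w (F.map j))
  have hw : w ≫ i' = F.map j := Over.OverMorphism.ext hw₀
  let v₀ : B'.left ⟶ BK.left := pullback.lift m.toImage B'.hom (by
    show m.toImage ≫ m.imageι ≫ A.hom = B'.hom ≫ t
    rw [Scheme.Hom.toImage_imageι_assoc, Category.assoc, hπ, reassoc_of% hi's])
  let v : B' ⟶ BK := Over.homMk v₀ (pullback.lift_snd _ _ _)
  have hv : v ≫ F.map j = i' := by
    refine Over.OverMorphism.ext ?_
    apply pullback.hom_ext
    · show (v₀ ≫ (F.map j).left) ≫ π = i'.left ≫ π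
      rw [Category.assoc, hρ, show v₀ ≫ ρ ≫ m.imageι = m.toImage ≫ m.imageι from by
        rw [← Category.assoc, pullback.lift_fst]]
      exact Scheme.Hom.toImage_imageι _
    · show (v₀ ≫ (F.map j).left) ≫ AK.hom = i'.left ≫ AK.hom
      rw [Category.assoc, Over.w (F.map j), hi's]
      exact pullback.lift_snd _ _ _
  haveI : Mono (F.map j) := Functor.map_mono F j
  let ei : BK ≅ B' := ⟨w, v, by rw [← cancel_mono (F.map j), Category.assoc, hv, hw, Category.id_comp],
    by rw [← cancel_mono i', Category.assoc, hw, hv, Category.id_comp]⟩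
  have hfac : ∀ {T : Over (Spec (CommRingCat.of k))} (f₀ : T ⟶ A) (z : F.obj T ⟶ B'), z ≫ i' = F.map f₀ →
      ∃ z₀ : T ⟶ B, z₀ ≫ j = f₀ := fun {T} f₀ z hz =>
    exists_factor_of_bc j f₀ ⟨z ≫ v, by rw [Category.assoc, hv, hz]⟩
  obtain ⟨gB, hj⟩ := Groth.L08.exists_grpObj_of_mono j
    (hfac η[A] 1 (by rw [MonObj.one_comp, one_eq_one, Functor.map_one]))
    (hfac _ ((F.map (fst B B) ≫ w) * (F.map (snd B B) ≫ w)) (by
      rw [MonObj.mul_comp, Category.assoc, Category.assoc, hw, Functor.map_mul, Functor.map_comp, Functor.map_comp]))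
    (hfac _ w⁻¹ (by
      rw [GrpObj.inv_comp, hw]
      exact (map_inv (Functor.homMonoidHom F) j).symm))
  haveI : IsProper B.hom := inferInstanceAs (IsProper (m.imageι ≫ A.hom))
  haveI : ConnectedSpace B.left := by
    haveI : ConnectedSpace B'.left := GeometricallyConnected.connectedSpace_of_subsingleton B'.hom
    haveI : Surjective ρ := inferInstanceAs (Surjective (pullback.fst B.hom t))
    haveI : Surjective ei.inv.left :=
      haveI : IsIso ei.inv.left := inferInstanceAs (IsIso ((Over.forget _).mapIso ei).inv)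
      inferInstance
    exact (ei.inv.left ≫ ρ).surjective.connectedSpace (ei.inv.left ≫ ρ).continuous
  haveI : Smooth B.hom := by
    haveI : IsIso ei.hom.left := inferInstanceAs (IsIso ((Over.forget _).mapIso ei).hom)
    have hs : Smooth (pullback.snd B.hom t) := by
      rw [show pullback.snd B.hom t = ei.hom.left ≫ B'.hom from (Over.w ei.hom).symm]
      haveI : Smooth B'.hom := inferInstance
      infer_instance
    exact MorphismProperty.of_isPullback_of_descendsAlong (P := @Smooth)
      (Q := @Surjective ⊓ @Flat ⊓ @QuasiCompact) (IsPullback.of_hasPullback B.hom t).flip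
      ⟨⟨‹Surjective t›, inferInstance⟩, inferInstance⟩ hs
  haveI := Groth.Agent.AV.geometricallyReduced_of_smooth B.hom
  exact ⟨B, gB, j, inferInstance, Groth.Agent.AV.geometricallyIntegral_of_connected B, hj, inferInstance, ei, hw⟩

end Groth.L08.Albanese
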