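import Groth.Agent.L08.Albanese.FullyFaithful
import Groth.Agent.L15.KerFlat.Basic
import Groth.Agent.S16676

/-!
# Isogenies from and onto constant abelian varieties
-/

set_option autoImplicit false
set_option backward.isDefEq.respectTransparency.types false
set_option linter.style.haveILetI false

universe u

open CategoryTheory CategoryTheory.Limits MonoidalCategory CartesianMonoidalCategory MonObj AlgebraicGeometry
open Groth.L25

noncomputable section

namespace Groth.L08.Albanese

variable {k K : Type u} [Field k] [Field K]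

/-- A flat surjective homomorphism with finite kernel is finite. -/
theorem isFinite_of_kernel {Y A E : Over (Spec (CommRingCat.of K))} [GrpObj Y] [GrpObj A] [QuasiCompact Y.hom]
    (φ : Y ⟶ A) [IsMonHom φ] [Surjective φ.left] [Flat φ.left] (κ : E ⟶ Y) (sq : AlgGrp.IsKernel κ φ)
    [IsFinite E.hom] : IsFinite φ.left := by
  haveI : QuasiCompact φ.left := AbelianGrp.quasiCompact_left φ
  have h2 := (Groth.L15.KerFlat.isPullback_kernelPair sq).map (Over.forget _)
  have h3 : IsFinite (fst Y E).left := MorphismProperty.pullback_fst Y.hom E.hom ‹IsFinite E.hom›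
  exact MorphismProperty.of_isPullback_of_descendsAlong (P := @IsFinite)
    (Q := @Surjective ⊓ @Flat ⊓ @QuasiCompact) h2
    ⟨⟨‹Surjective φ.left›, ‹Flat φ.left›⟩, ‹QuasiCompact φ.left›⟩ h3

/-- A surjective homomorphism of abelian varieties is a quotient by an abelian subvariety followed by an isogeny. -/
theorem exists_finite_quotient {X A : Over (Spec (CommRingCat.of K))} [GrpObj X] [GrpObj A] [IsProper X.hom]
    [GeometricallyIntegral X.hom] [IsProper A.hom] [GeometricallyIntegral A.hom] (β : X ⟶ A) [IsMonHom β]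
    [Surjective β.left] :
    ∃ (C : Over (Spec (CommRingCat.of K))) (_ : GrpObj C) (c : C ⟶ X) (Y : Over (Spec (CommRingCat.of K)))
      (_ : GrpObj Y) (q : X ⟶ Y) (φ : Y ⟶ A),
      IsMonHom c ∧ IsClosedImmersion c.left ∧ IsProper C.hom ∧ GeometricallyIntegral C.hom ∧ IsProper Y.hom ∧
      GeometricallyIntegral Y.hom ∧ IsMonHom q ∧ Surjective q.left ∧ Flat q.left ∧
      LocallyOfFinitePresentation q.left ∧ AlgGrp.IsKernel c q ∧ IsMonHom φ ∧ q ≫ φ = β ∧ IsFinite φ.left ∧
      Surjective φ.left := by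
  haveI : IsCommMonObj X := isCommMonObj_of_isProper_of_geometricallyIntegral X
  haveI : AlgebraicGeometry.IsIntegral A.left := GeometricallyIntegral.isIntegral_of_subsingleton A.hom
  haveI : Flat β.left := FlatHom.flat_of_surjective X A β
  obtain ⟨R, gR, i, _, _, -, sqR⟩ := AbelianGrp.exists_kernel β
  haveI : Mono i := Over.mono_of_mono_left i
  haveI : IsProper R.hom := by rw [← Over.w i]; infer_instance
  haveI := AffHull.compactSpace (G := R)
  haveI := AffHull.quasiSeparatedSpace (G := R)
  obtain ⟨hlftR, hsR, hfR, hpR⟩ := AffHull.hull_props (G := R)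
  obtain ⟨C, gC, i₁, _, _, -, sq₁⟩ := AbelianGrp.exists_kernel (AffHull.rho R)
  haveI : IsProper C.hom := by rw [← Over.w i₁]; infer_instance
  have hO := AffHull.isIso_appTop_kernel i₁ sq₁
  haveI : Smooth C.hom := AffHull.smooth_of_antiAffine C hO
  haveI : ConnectedSpace C.left := AffHull.connectedSpace_of_antiAffine C hO
  haveI := geometricallyIntegral_of_smooth C
  let c : C ⟶ X := i₁ ≫ i
  haveI : IsMonHom c := inferInstanceAs (IsMonHom (i₁ ≫ i))
  haveI : IsClosedImmersion c.left := inferInstanceAs (IsClosedImmersion (i₁.left ≫ i.left))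
  haveI : Mono i₁ := Over.mono_of_mono_left i₁
  obtain ⟨Y, gY, q, _, _, _, _, _, _, -, hker⟩ := AbelianGrp.exists_quotient c
  obtain ⟨_, _⟩ := abelian_of_cover q
  obtain ⟨φ, _, hφ, -⟩ := Groth.Agent.S3280.result K X C Y A q c hker β (by
    rw [Category.assoc, sqR.w, ← Category.assoc]
    congr 1
    exact toUnit_unique _ _)
  haveI : Surjective φ.left := by
    haveI : Surjective (q.left ≫ φ.left) := by rw [← Over.comp_left, hφ]; infer_instance
    exact Surjective.of_comp q.left φ.left
  haveI : Flat φ.left := FlatHom.flat_of_surjective Y A φ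
  obtain ⟨E, gE, κ, _, _, -, sqK⟩ := AbelianGrp.exists_kernel φ
  haveI : Mono κ := Over.mono_of_mono_left κ
  haveI : IsProper E.hom := by rw [← Over.w κ]; infer_instance
  have hκ : κ ≫ φ = 1 := sqK.w.trans (Hom.one_def).symm
  obtain ⟨h, hh, -⟩ := sqK.exists_lift (i ≫ q) (toUnit R) (by rw [Category.assoc, hφ, sqR.w])
  have sqN : IsPullback h i κ q := by
    refine IsPullback.mk' hh (fun T a b _ e2 => ?_) (fun T a b e => ?_)
    · exact (cancel_mono i).1 e2
    · obtain ⟨d, hd, -⟩ := sqR.exists_lift b (toUnit T) (by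
        rw [← hφ, ← Category.assoc, ← e, Category.assoc, hκ, MonObj.comp_one, Hom.one_def])
      exact ⟨d, by rw [← cancel_mono κ, Category.assoc, hh, reassoc_of% hd, e], hd⟩
  haveI : Surjective h.left :=
    MorphismProperty.of_isPullback (P := @Surjective) (sqN.map (Over.forget _)).flip ‹Surjective q.left›
  -- the affine hull of the kernel is finite and maps onto the kernel of `φ`
  haveI := hsR
  haveI : IsFinite (AffHull.hull R).hom := by
    haveI := AbelianGrp.isSeparated (AffHull.hull R)
    haveI : UniversallyClosed ((AffHull.rho R).left ≫ (AffHull.hull R).hom) := by rw [Over.w]; infer_instance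
    haveI : UniversallyClosed (AffHull.hull R).hom :=
      UniversallyClosed.of_comp_surjective (AffHull.rho R).left (AffHull.hull R).hom
    haveI := hlftR
    haveI : IsProper (AffHull.hull R).hom := {}
    exact IsFinite.iff_isProper_and_isAffineHom.2 ⟨inferInstance, inferInstance⟩
  haveI := hfR
  haveI := hpR
  obtain ⟨g, hg⟩ := AffHull.exists_desc_cover (AffHull.rho R) h fun {T} a b e => by
    obtain ⟨d, hd, -⟩ := sq₁.exists_lift (a * b⁻¹) (toUnit T)
      (by rw [MonObj.mul_comp, GrpObj.inv_comp, e, mul_inv_cancel, Hom.one_def])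
    have h1 : ((a * b⁻¹) ≫ i) ≫ q = 1 := by
      rw [← hd, Category.assoc d, ← show c = i₁ ≫ i from rfl, Category.assoc,
        show c ≫ q = 1 from hker.w.trans (Hom.one_def).symm, MonObj.comp_one]
    rw [MonObj.mul_comp, GrpObj.inv_comp, MonObj.mul_comp, GrpObj.inv_comp, mul_inv_eq_one] at h1
    rw [← cancel_mono κ]
    simp only [Category.assoc, hh]
    simpa only [Category.assoc] using h1
  haveI : Surjective g.left := by
    haveI : Surjective ((AffHull.rho R).left ≫ g.left) := by rw [← Over.comp_left, hg]; infer_instance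
    exact Surjective.of_comp (AffHull.rho R).left g.left
  haveI : Finite (AffHull.hull R).left := by
    refine Finite.of_finite_univ ?_
    simpa using (AffHull.hull R).hom.finite_preimage_singleton (IsLocalRing.closedPoint K) |>.subset
      (fun x _ => Subsingleton.elim (α := PrimeSpectrum K) ((AffHull.hull R).hom x) _)
  haveI : IsLocallyArtinian (AffHull.hull R).left := IsLocallyArtinian.of_locallyQuasiFinite (AffHull.hull R).hom
  haveI : DiscreteTopology (AffHull.hull R).left := IsLocallyArtinian.discreteTopology (X := (AffHull.hull R).left)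
  haveI : Finite E.left := Finite.of_surjective _ g.left.surjective
  haveI : T1Space E.left := ⟨fun y => by
    obtain ⟨x, rfl⟩ := g.left.surjective y
    haveI : IsSeparated E.hom := AbelianGrp.isSeparated E
    haveI : IsProper (g.left ≫ E.hom) := by rw [Over.w g]; infer_instance
    haveI : IsProper g.left := IsProper.of_comp g.left E.hom
    rw [← Set.image_singleton]
    exact g.left.isClosedMap _ (isClosed_discrete _)⟩
  haveI : IsFinite E.hom := Groth.L21.CurveTop.isFinite_of_discrete E.hom
  haveI := isFinite_of_kernel φ κ sqK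
  exact ⟨C, gC, c, Y, gY, q, φ, inferInstance, inferInstance, inferInstance, inferInstance, inferInstance,
    inferInstance, inferInstance, inferInstance, inferInstance, inferInstance, hker, inferInstance, hφ,
    inferInstance, inferInstance⟩

/-- An isogeny has an inverse up to multiplication. -/
theorem exists_back_isogeny {Y A : Over (Spec (CommRingCat.of K))} [GrpObj Y] [GrpObj A] [IsProper Y.hom]
    [GeometricallyIntegral Y.hom] [IsProper A.hom] [GeometricallyIntegral A.hom] (φ : Y ⟶ A) [IsMonHom φ]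
    [IsFinite φ.left] [Surjective φ.left] :
    ∃ (n : ℕ) (ν : A ⟶ Y), 1 ≤ n ∧ IsMonHom ν ∧ φ ≫ ν = 𝟙 Y ^ n ∧ ν ≫ φ = 𝟙 A ^ n ∧ IsFinite ν.left ∧
      Surjective ν.left := by
  obtain ⟨E, gE, κ, _, _, hc, sqK⟩ := AbelianGrp.exists_kernel φ
  haveI : IsCommMonObj Y := isCommMonObj_of_isProper_of_geometricallyIntegral Y
  haveI : IsCommMonObj A := isCommMonObj_of_isProper_of_geometricallyIntegral A
  haveI : IsCommMonObj E := hc inferInstance
  haveI : IsIso (𝟙_ (Over (Spec (CommRingCat.of K)))).hom := inferInstanceAs (IsIso (𝟙 _))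
  haveI : IsFinite E.hom := by
    rw [← Over.w (toUnit E)]
    exact (MorphismProperty.cancel_right_of_respectsIso @IsFinite _ (𝟙_ (Over (Spec (CommRingCat.of K)))).hom).2
      (MorphismProperty.of_isPullback (sqK.map (Over.forget _)) ‹IsFinite φ.left›)
  haveI : Surjective E.hom := ⟨fun x => ⟨Component.one E, Subsingleton.elim (α := PrimeSpectrum K) _ _⟩⟩
  let n := E.hom.finrank (IsLocalRing.closedPoint K)
  have hn : 1 ≤ n := (Scheme.Hom.one_le_finrank_iff_surjective E.hom).2 ‹Surjective E.hom› _
  have hE : (𝟙 E : E ⟶ E) ^ n = 1 := Deligne.pow_eq_one E n fun s =>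
    congrArg E.hom.finrank (Subsingleton.elim (α := PrimeSpectrum K) _ _)
  haveI : IsMonHom (𝟙 Y ^ n) := Groth.Agent.AV.Isogeny.isMonHom_pow n
  haveI : AlgebraicGeometry.IsIntegral A.left := GeometricallyIntegral.isIntegral_of_subsingleton A.hom
  haveI : AlgebraicGeometry.IsIntegral Y.left := GeometricallyIntegral.isIntegral_of_subsingleton Y.hom
  haveI : IsLocallyNoetherian A.left := LocallyOfFiniteType.isLocallyNoetherian A.hom
  haveI : Flat φ.left := FlatHom.flat_of_surjective Y A φ
  have hκn : κ ≫ (𝟙 Y ^ n) = toUnit E ≫ η[Y] := by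
    have h1 : κ = 𝟙 E ≫ κ := (Category.id_comp κ).symm
    rw [MonObj.comp_pow, Category.comp_id, h1, ← MonObj.pow_comp, hE, MonObj.one_comp, Hom.one_def]
  obtain ⟨ν, _, hφν, -⟩ := Groth.Agent.S3280.result K Y E A Y φ κ sqK (𝟙 Y ^ n) hκn
  haveI : LocallyOfFinitePresentation φ.left := LocallyOfFinitePresentation.iff_locallyOfFiniteType.2 inferInstance
  haveI : Epi φ := GQuot.epi_of_cover φ
  have hνφ : ν ≫ φ = 𝟙 A ^ n := by
    rw [← cancel_epi φ, reassoc_of% hφν, MonObj.pow_comp, Category.id_comp, MonObj.comp_pow, Category.comp_id]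
  haveI : IsFinite (ν.left ≫ φ.left) := by
    rw [← Over.comp_left, hνφ]
    exact (Groth.Agent.AV.Degree.isogeny_pow (A := A) hn).1
  haveI : IsFinite ν.left := IsFinite.of_comp ν.left φ.left
  haveI : Surjective ν.left := by
    haveI : Surjective (φ.left ≫ ν.left) := by
      rw [← Over.comp_left, hφν]
      exact (Groth.Agent.AV.Degree.isogeny_pow (A := Y) hn).2.2.1
    exact Surjective.of_comp φ.left ν.left
  exact ⟨n, ν, hn, inferInstance, hφν, hνφ, inferInstance, inferInstance⟩

variable [Algebra k K]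

/-- A quotient of a constant abelian variety by a constant subgroup is constant. -/
theorem exists_iso_bc_quotient {B U : Over (Spec (CommRingCat.of k))} [GrpObj B] [GrpObj U] [IsProper B.hom]
    [GeometricallyIntegral B.hom] (j₀ : U ⟶ B) [IsMonHom j₀] [IsClosedImmersion j₀.left]
    {Y : Over (Spec (CommRingCat.of K))} [GrpObj Y] (q : Red.bc (AbVar.ext k K) B ⟶ Y) [IsMonHom q]
    [Surjective q.left] [Flat q.left] [LocallyOfFinitePresentation q.left]
    (hrel : ∀ {T : Over (Spec (CommRingCat.of K))} (a : T ⟶ Red.bc (AbVar.ext k K) B),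
      a ≫ q = 1 ↔ ∃ z, z ≫ (Over.pullback (AbVar.ext k K)).map j₀ = a) :
    ∃ (B' : Over (Spec (CommRingCat.of k))) (_ : GrpObj B') (e : Red.bc (AbVar.ext k K) B' ≅ Y),
      IsProper B'.hom ∧ GeometricallyIntegral B'.hom ∧ IsMonHom e.hom ∧ IsMonHom e.inv := by
  let F := Over.pullback (AbVar.ext k K)
  haveI : IsCommMonObj B := isCommMonObj_of_isProper_of_geometricallyIntegral B
  obtain ⟨B', gB', q₀, _, _, _, _, _, _, -, sqQ⟩ := AbelianGrp.exists_quotient j₀
  obtain ⟨_, _⟩ := abelian_of_cover q₀
  haveI : Surjective (F.map q₀).left :=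
    MorphismProperty.of_isPullback (P := @Surjective) (isPullback_bc_map q₀).flip ‹Surjective q₀.left›
  haveI : Flat (F.map q₀).left :=
    MorphismProperty.of_isPullback (P := @Flat) (isPullback_bc_map q₀).flip ‹Flat q₀.left›
  haveI : LocallyOfFinitePresentation (F.map q₀).left :=
    MorphismProperty.of_isPullback (P := @LocallyOfFinitePresentation) (isPullback_bc_map q₀).flip
      ‹LocallyOfFinitePresentation q₀.left›
  haveI : IsMonHom (F.map q₀) := Groth.L25.MonoClosed.isMonHom_pullbackMap _ _
  have hjq : F.map j₀ ≫ F.map q₀ = 1 := by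
    rw [← Functor.map_comp, show j₀ ≫ q₀ = 1 from sqQ.w.trans (Hom.one_def).symm, Functor.map_one]
  obtain ⟨e, he⟩ := AffHull.exists_iso_of_covers (F.map q₀) q fun {T} a b => by
    have key : (a * b⁻¹) ≫ F.map q₀ = 1 ↔ (a * b⁻¹) ≫ q = 1 := by
      constructor
      · intro e1
        exact (hrel _).2 (exists_lift_bc j₀ q₀ sqQ _ e1)
      · intro e1
        obtain ⟨c, hc⟩ := (hrel _).1 e1
        rw [← hc, Category.assoc, hjq, MonObj.comp_one]
    rwa [MonObj.mul_comp, GrpObj.inv_comp, mul_inv_eq_one, MonObj.mul_comp, GrpObj.inv_comp, mul_inv_eq_one] at key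
  haveI hh : IsMonHom e.hom := by
    obtain ⟨_, _, _⟩ := GQuot.cover_tensor₂ (F.map q₀)
    haveI : Epi (F.map q₀ ⊗ₘ F.map q₀) := GQuot.epi_of_cover _
    refine ⟨?_, ?_⟩
    · rw [← IsMonHom.one_hom (f := F.map q₀), Category.assoc, he, IsMonHom.one_hom]
    · rw [← cancel_epi (F.map q₀ ⊗ₘ F.map q₀), ← IsMonHom.mul_hom_assoc, he, IsMonHom.mul_hom,
        tensorHom_comp_tensorHom_assoc, he]
  haveI : IsMonHom e.inv :=
    { one_hom := by rw [← cancel_mono e.hom, Category.assoc, Iso.inv_hom_id, Category.comp_id, IsMonHom.one_hom]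
      mul_hom := by
        rw [← cancel_mono e.hom, Category.assoc, Category.assoc, Iso.inv_hom_id, Category.comp_id, IsMonHom.mul_hom,
          tensorHom_comp_tensorHom_assoc, Iso.inv_hom_id, id_tensorHom_id, Category.id_comp] }
  exact ⟨B', gB', e, inferInstance, inferInstance, inferInstance, inferInstance⟩

/-- A quotient of a constant abelian variety is isogenous to a constant abelian variety. -/
theorem exists_isogenous_of_surjective (h : AbVar.IsPrimaryExt k K)
    (B : Over (Spec (CommRingCat.of k))) [GrpObj B] [IsProper B.hom] [GeometricallyIntegral B.hom]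
    {A : Over (Spec (CommRingCat.of K))} [GrpObj A] [IsProper A.hom] [GeometricallyIntegral A.hom]
    (β : Red.bc (AbVar.ext k K) B ⟶ A) [IsMonHom β] [Surjective β.left] :
    ∃ (B' : Over (Spec (CommRingCat.of k))) (_ : GrpObj B'), IsProper B'.hom ∧ GeometricallyIntegral B'.hom ∧
      (∃ φ : Red.bc (AbVar.ext k K) B' ⟶ A, IsMonHom φ ∧ IsFinite φ.left ∧ Surjective φ.left) ∧
      ∃ γ : A ⟶ Red.bc (AbVar.ext k K) B', IsMonHom γ ∧ IsFinite γ.left ∧ Surjective γ.left := by
  haveI : IsProper (Red.bc (AbVar.ext k K) B).hom := MorphismProperty.pullback_snd (P := @IsProper) _ _ ‹_›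
  haveI : GeometricallyIntegral (Red.bc (AbVar.ext k K) B).hom :=
    MorphismProperty.pullback_snd (P := @GeometricallyIntegral) _ _ ‹_›
  obtain ⟨C, gC, c, Y, gY, q, φ, _, _, _, _, _, _, _, _, _, _, sqC, _, -, _, _⟩ := exists_finite_quotient β
  obtain ⟨C₀, gC₀, i₀, _, _, _, _, e₀, he₀⟩ := exists_descend h B C c
  obtain ⟨B', gB', e, _, _, _, _⟩ := exists_iso_bc_quotient i₀ q fun {T} a => by
    refine ⟨fun ha => ?_, fun ⟨z, hz⟩ => ?_⟩
    · obtain ⟨z, hz, -⟩ := sqC.exists_lift a (toUnit T) (by rw [ha, Hom.one_def])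
      exact ⟨z ≫ e₀.inv, by rw [Category.assoc, ← he₀, Iso.inv_hom_id_assoc, hz]⟩
    · rw [← hz, ← he₀, Category.assoc, Category.assoc, show c ≫ q = 1 from sqC.w.trans (Hom.one_def).symm,
        MonObj.comp_one, MonObj.comp_one]
  obtain ⟨n, ν, -, _, -, -, _, _⟩ := exists_back_isogeny φ
  haveI : IsIso e.hom.left := inferInstanceAs (IsIso ((Over.forget _).mapIso e).hom)
  haveI : IsIso e.inv.left := inferInstanceAs (IsIso ((Over.forget _).mapIso e).inv)
  refine ⟨B', gB', inferInstance, inferInstance, ⟨e.hom ≫ φ, inferInstance, ?_, ?_⟩,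
    ν ≫ e.inv, inferInstance, ?_, ?_⟩ <;> rw [Over.comp_left] <;> infer_instance

/-- A homomorphism onto the image with finite kernel is universally injective. -/
theorem universallyInjective_image (h : AbVar.IsPrimaryExt k K) {A : Over (Spec (CommRingCat.of K))} [GrpObj A]
    [IsProper A.hom] [GeometricallyIntegral A.hom]
    {A₀ : Over (Spec (CommRingCat.of k))} [GrpObj A₀] [IsProper A₀.hom] [GeometricallyIntegral A₀.hom]
    (lam : A ⟶ Red.bc (AbVar.ext k K) A₀) (hl : AbVar.IsChowImage k K A A₀ lam)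
    (B : Over (Spec (CommRingCat.of k))) [GrpObj B] [IsProper B.hom] [GeometricallyIntegral B.hom]
    (β : Red.bc (AbVar.ext k K) B ⟶ A) [IsMonHom β] [Surjective β.left] :
    IsFinite lam.left ∧ UniversallyInjective lam.left := by
  haveI := hl.isMonHom
  haveI := hl.surjective
  obtain ⟨B', gB', _, _, -, γ, _, _, -⟩ := exists_isogenous_of_surjective h B β
  obtain ⟨α₀, hα₀, hfac⟩ := hl.fac B' γ
  haveI : IsProper (Red.bc (AbVar.ext k K) A₀).hom := MorphismProperty.pullback_snd (P := @IsProper) _ _ ‹_›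
  haveI : GeometricallyIntegral (Red.bc (AbVar.ext k K) A₀).hom :=
    MorphismProperty.pullback_snd (P := @GeometricallyIntegral) _ _ ‹_›
  haveI : IsProper (Red.bc (AbVar.ext k K) B').hom := MorphismProperty.pullback_snd (P := @IsProper) _ _ ‹_›
  let m := (Over.pullback (AbVar.ext k K)).map α₀
  haveI : IsSeparated m.left := by
    haveI : IsSeparated (m.left ≫ (Red.bc (AbVar.ext k K) B').hom) := by rw [Over.w m]; infer_instance
    exact IsSeparated.of_comp _ (Red.bc (AbVar.ext k K) B').hom
  haveI : IsFinite (lam.left ≫ m.left) := by rw [← Over.comp_left, hfac]; infer_instance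
  haveI : IsFinite lam.left := IsFinite.of_comp lam.left m.left
  haveI : AlgebraicGeometry.IsIntegral (Red.bc (AbVar.ext k K) A₀).left :=
    GeometricallyIntegral.isIntegral_of_subsingleton (Red.bc (AbVar.ext k K) A₀).hom
  haveI : Flat lam.left := FlatHom.flat_of_surjective A _ lam
  obtain ⟨N, gN, i, _, _, -, sq⟩ := AbelianGrp.exists_kernel lam
  exact ⟨inferInstance,
    (Groth.Agent.S16676.result K A _ lam N i sq).2 (connectedSpace_kernel h lam hl i sq)⟩

end Groth.L08.Albanese
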